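import Cfsg.Agent.H520.RC.SpId
import Cfsg.Agent.H380.RC.Rules

/-!
# S3510, row D, box D1: transvections and elements fixing their centre (helper520)

* `Qe hB e` : the unipotent radical of the stabiliser of `⟨e⟩`, `ph hB hw c ∈ Qe` : `x ↦ x + B x e w + (B x w + c B x e) e`;
* `lr_pprime` : no cover `{ρ (tv e c)} ∪ {x j}`, `M j e ∈ ⟨e⟩`, `r j ≠ p`;
* `lr_single` : no cover `{ρ (tv e c), x}`, `M e ∈ ⟨e⟩`, `x` not of the form `ρ (tv e c')`.
-/

set_option autoImplicit false
open Cfsg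

namespace Cfsg.Agent.H520.RC

open MulAction Module Cfsg.Agent.H106.RC Cfsg.Agent.H727.GW Cfsg.Agent.H380.RC

universe u v

section qe

variable {F : Type u} {V : Type v} [Field F] [AddCommGroup V] [Module F V] {B : LinearMap.BilinForm F V}

/-- elements of the unipotent radical of the stabiliser of `⟨e⟩` -/
def ph (hB : NAlt B) {e w : V} (hw : B w e = 0) (c : F) : Sp B :=
  ⟨{ toFun := fun x => x + B x e • w + (B x w + c * B x e) • e
     invFun := fun x => x - B x e • w - (B x w + c * B x e) • e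
     left_inv := fun x => by
      show (x + B x e • w + (B x w + c * B x e) • e) - B (x + B x e • w + (B x w + c * B x e) • e) e • w -
        (B (x + B x e • w + (B x w + c * B x e) • e) w + c * B (x + B x e • w + (B x w + c * B x e) • e) e) • e = x
      simp only [map_add, LinearMap.add_apply, map_smul, LinearMap.smul_apply, smul_eq_mul, hB.alt, hw, hB.swap0 hw,
        mul_zero, add_zero]
      abel
     right_inv := fun x => by
      show (x - B x e • w - (B x w + c * B x e) • e) + B (x - B x e • w - (B x w + c * B x e) • e) e • w +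
        (B (x - B x e • w - (B x w + c * B x e) • e) w + c * B (x - B x e • w - (B x w + c * B x e) • e) e) • e = x
      simp only [map_sub, LinearMap.sub_apply, map_smul, LinearMap.smul_apply, smul_eq_mul, hB.alt, hw, hB.swap0 hw,
        mul_zero, sub_zero]
      abel
     map_add' := fun x y => by
      simp only [map_add, LinearMap.add_apply, add_smul, mul_add]
      abel
     map_smul' := fun a x => by
      simp only [map_smul, LinearMap.smul_apply, smul_eq_mul, RingHom.id_apply, smul_add, smul_smul, mul_add]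
      congr 2
      ring }, by
    intro x y
    show B (x + B x e • w + (B x w + c * B x e) • e) (y + B y e • w + (B y w + c * B y e) • e) = B x y
    simp only [map_add, LinearMap.add_apply, map_smul, LinearMap.smul_apply, smul_eq_mul, hB.alt, hw, hB.swap0 hw,
      mul_zero, add_zero]
    rw [hB.swap w y, hB.swap e y]
    ring⟩

theorem ph_apply (hB : NAlt B) {e w : V} (hw : B w e = 0) (c : F) (x : V) :
    (ph hB hw c).1 x = x + B x e • w + (B x w + c * B x e) • e := rfl

theorem pa {e w w' : V} (hw : B w e = 0) (hw' : B w' e = 0) : B (w + w') e = 0 := by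
  rw [map_add, LinearMap.add_apply, hw, hw', add_zero]

theorem pn {e w : V} (hw : B w e = 0) : B (-w) e = 0 := by
  rw [map_neg, LinearMap.neg_apply, hw, neg_zero]

theorem ph_mul (hB : NAlt B) {e w w' : V} (hw : B w e = 0) (hw' : B w' e = 0) (c c' : F) :
    ph hB hw c * ph hB hw' c' = ph hB (pa hw hw') (c + c' + B w' w) := by
  apply Subtype.ext
  apply LinearEquiv.ext
  intro x
  show (ph hB hw c).1 ((ph hB hw' c').1 x) = _
  rw [ph_apply, ph_apply, ph_apply]
  simp only [map_add, LinearMap.add_apply, map_smul, LinearMap.smul_apply, smul_eq_mul, hB.alt, hw', hB.swap0 hw,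
    mul_zero, add_zero]
  module

theorem ph_zero (hB : NAlt B) {e : V} (hw : B 0 e = 0) (c : F) : ph hB hw c = tv hB e c := by
  apply Subtype.ext
  apply LinearEquiv.ext
  intro x
  rw [ph_apply, tv_apply, smul_zero, add_zero, map_zero, zero_add]

theorem ph_congr (hB : NAlt B) {e w w' : V} (hw : B w e = 0) (hw' : B w' e = 0) {c c' : F} (h : w = w') (hc : c = c') :
    ph hB hw c = ph hB hw' c' := by
  subst h; subst hc; rfl

theorem ph_inv (hB : NAlt B) {e w : V} (hw : B w e = 0) (c : F) :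
    (ph hB hw c)⁻¹ = ph hB (pn hw) (-c) := by
  rw [inv_eq_iff_mul_eq_one, ph_mul]
  have h0 : B 0 e = 0 := by rw [map_zero, LinearMap.zero_apply]
  rw [ph_congr hB _ h0 (c' := 0) (by rw [add_neg_cancel]) (by
    rw [map_neg, LinearMap.neg_apply, hB.alt]; ring), ph_zero, tv_zero]

theorem ph_comm (hB : NAlt B) {e w w' : V} (hw : B w e = 0) (hw' : B w' e = 0) (c c' : F) :
    ph hB hw c * ph hB hw' c' * (ph hB hw c)⁻¹ * (ph hB hw' c')⁻¹ = tv hB e (2 * B w' w) := by
  have h0 : B 0 e = 0 := by rw [map_zero, LinearMap.zero_apply]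
  rw [ph_inv, ph_inv, ph_mul, ph_mul, ph_mul, ph_congr hB _ h0 (c' := 2 * B w' w) (by abel) ?_, ph_zero]
  simp only [map_add, map_neg, LinearMap.add_apply, LinearMap.neg_apply, hB.alt]
  rw [hB.swap w w']
  ring

/-- the unipotent radical of the stabiliser of `⟨e⟩` -/
def Qe (hB : NAlt B) (e : V) : Subgroup (Sp B) where
  carrier := {g | g.1 e = e ∧ ∀ x, B x e = 0 → ∃ c : F, g.1 x = x + c • e}
  one_mem' := ⟨rfl, fun x _ => ⟨0, by rw [zero_smul, add_zero]; rfl⟩⟩
  mul_mem' := by
    rintro g h ⟨hg, hg'⟩ ⟨hh, hh'⟩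
    refine ⟨?_, fun x hx => ?_⟩
    · show g.1 (h.1 e) = e
      rw [hh, hg]
    · obtain ⟨c, hc⟩ := hh' x hx
      obtain ⟨d, hd⟩ := hg' x hx
      refine ⟨c + d, ?_⟩
      show g.1 (h.1 x) = _
      rw [hc, map_add, map_smul, hg, hd, add_smul]
      abel
  inv_mem' := by
    rintro g ⟨hg, hg'⟩
    refine ⟨?_, fun x hx => ?_⟩
    · show g.1.symm e = e
      rw [LinearEquiv.symm_apply_eq, hg]
    · obtain ⟨c, hc⟩ := hg' x hx
      refine ⟨-c, ?_⟩
      show g.1.symm x = _
      rw [LinearEquiv.symm_apply_eq, map_add, map_smul, hg, hc, neg_smul, add_neg_cancel_right]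

theorem mem_Qe {hB : NAlt B} {e : V} {g : Sp B} :
    g ∈ Qe hB e ↔ g.1 e = e ∧ ∀ x, B x e = 0 → ∃ c : F, g.1 x = x + c • e := Iff.rfl

theorem ph_mem (hB : NAlt B) {e w : V} (hw : B w e = 0) (c : F) : ph hB hw c ∈ Qe hB e := by
  refine ⟨?_, fun x hx => ⟨B x w, ?_⟩⟩
  · rw [ph_apply, hB.alt, hB.swap0 hw]
    simp
  · rw [ph_apply, hx, zero_smul, add_zero, mul_zero, add_zero]

theorem tv_mem_Qe (hB : NAlt B) (e : V) (c : F) : tv hB e c ∈ Qe hB e := by
  have h0 : B 0 e = 0 := by rw [map_zero, LinearMap.zero_apply]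
  rw [← ph_zero hB h0]
  exact ph_mem hB h0 c

/-- the transvections with centre `⟨e⟩` are central in `Qe` -/
theorem Qe_comm (hB : NAlt B) {e : V} {g : Sp B} (hg : g ∈ Qe hB e) (c : F) : g * tv hB e c = tv hB e c * g := by
  have h1 := SS.cj_tg g (tv hB e c)
  rw [cj_tv] at h1
  have h2 : tv hB (SS.tg g e) ((SS.tg g).σ c * (SS.tg g).l⁻¹) = tv hB e c := by
    have h3 : SS.tg g e = e := hg.1
    rw [h3]
    congr 1
    show c * (1 : F)⁻¹ = c
    rw [inv_one, mul_one]
  rw [h2] at h1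
  exact (eq_mul_inv_iff_mul_eq.1 h1).symm

/-- powers of elements of `Qe` -/
theorem Qe_pow (hB : NAlt B) {e : V} {g : Sp B} (hg : g ∈ Qe hB e) (v : V) :
    ∃ d₁ d₂ : V, ∀ k : ℕ, (g ^ k).1 v = v + (k : F) • d₁ + (k.choose 2 : F) • d₂ := by
  have h1 : B (g.1 v - v) e = 0 := by
    rw [map_sub, LinearMap.sub_apply]
    have h2 := g.2 v e
    rw [hg.1] at h2
    rw [h2, sub_self]
  obtain ⟨c, hc⟩ := hg.2 _ h1
  refine ⟨g.1 v - v, c • e, fun k => ?_⟩
  induction k with
  | zero => simp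
  | succ k ih =>
    have h3 : (g ^ (k + 1)).1 v = g.1 ((g ^ k).1 v) := by
      rw [pow_succ']; rfl
    have h4 : g.1 (g.1 v) = g.1 v + (g.1 v - v) + c • e := by
      have h5 : g.1 (g.1 v - v) = g.1 (g.1 v) - g.1 v := map_sub _ _ _
      rw [h5] at hc
      rw [sub_eq_iff_eq_add] at hc
      rw [hc]; abel
    rw [h3, ih, map_add, map_add, map_smul, map_smul, map_smul, map_sub, hg.1, h4, Nat.choose_succ_succ' k 1,
      Nat.choose_one_right]
    push_cast
    module

/-- `Qe` is a `p`-group -/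
theorem Qe_pgroup (hB : NAlt B) (e : V) (p : ℕ) [hp : Fact p.Prime] [CharP F p] : IsPGroup p (Qe hB e) := by
  rintro ⟨g, hg⟩
  refine ⟨2, Subtype.ext (Subtype.ext (LinearEquiv.ext fun v => ?_))⟩
  obtain ⟨d₁, d₂, h⟩ := Qe_pow hB hg v
  show (g ^ p ^ 2).1 v = v
  rw [h]
  have h1 : ((p ^ 2 : ℕ) : F) = 0 := by
    rw [Nat.cast_pow, CharP.cast_eq_zero, zero_pow two_ne_zero]
  have h2 : (((p ^ 2).choose 2 : ℕ) : F) = 0 := by
    rw [CharP.cast_eq_zero_iff F p]
    exact hp.out.dvd_choose_pow (by norm_num) (by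
      intro h3
      have h4 := hp.out.two_le
      have h5 : p * p = 2 := by rw [← pow_two]; exact h3.symm
      nlinarith)
  rw [h1, h2, zero_smul, zero_smul, add_zero, add_zero]

/-- conjugation of `ph` by a semisimilitude fixing `⟨e⟩` -/
theorem cj_ph (hB : NAlt B) {e w : V} (hw : B w e = 0) (c : F) (M : SS B) {μ : F} (hμ : μ ≠ 0) (he : M e = μ • e)
    (hw' : B ((M.l⁻¹ * μ) • M w) e = 0) :
    SS.cj M (ph hB hw c) = ph hB hw' (M.σ c * M.l⁻¹ * μ * μ) := by
  apply SS.cj_eq
  intro x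
  have h1 : B (M x) e = μ⁻¹ * (M.l * M.σ (B x e)) := by
    rw [← M.form, he, map_smul, smul_eq_mul, inv_mul_cancel_left₀ hμ]
  have h2 : B (M x) ((M.l⁻¹ * μ) • M w) = μ * M.σ (B x w) := by
    rw [map_smul, M.form, smul_eq_mul]
    field_simp [M.hl]
  rw [ph_apply, ph_apply, h1, h2, M.map_add, M.map_add, M.map_smul, M.map_smul, he, smul_smul, smul_smul, map_add,
    map_mul]
  have hl := M.hl
  congr 2
  · congr 1
    field_simp
  · congr 1
    field_simp

/-- a semisimilitude fixing `⟨e⟩` normalises `Qe` -/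
theorem cj_Qe (hB : NAlt B) {e : V} (M : SS B) {μ : F} (he : M e = μ • e) {g : Sp B}
    (hg : g ∈ Qe hB e) : SS.cj M g ∈ Qe hB e := by
  by_cases he0 : e = 0
  · subst he0
    refine ⟨map_zero _, fun x _ => ?_⟩
    obtain ⟨x, rfl⟩ := M.surjective x
    obtain ⟨c, hc⟩ := hg.2 x (map_zero _)
    exact ⟨0, by rw [SS.cj_apply, hc, smul_zero, smul_zero, add_zero, add_zero]⟩
  have hμ : μ ≠ 0 := by
    rintro rfl
    rw [zero_smul] at he
    exact he0 (M.injective (he.trans M.map_zero.symm))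
  refine ⟨?_, fun x hx => ?_⟩
  · have h1 : e = M (M.σ.symm μ⁻¹ • e) := by
      rw [M.map_smul, RingEquiv.apply_symm_apply, he, smul_smul, inv_mul_cancel₀ hμ, one_smul]
    conv_lhs => rw [h1]
    rw [SS.cj_apply, map_smul, hg.1, ← h1]
  · obtain ⟨x, rfl⟩ := M.surjective x
    have h1 : B x e = 0 := by
      have h2 : B (M x) (M e) = 0 := by rw [he, map_smul, hx, smul_zero]
      rw [M.form] at h2
      exact (map_eq_zero M.σ).1 ((mul_eq_zero.1 h2).resolve_left M.hl)
    obtain ⟨c, hc⟩ := hg.2 x h1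
    refine ⟨M.σ c * μ, ?_⟩
    rw [SS.cj_apply, hc, M.map_add, M.map_smul, he, smul_smul]

/-- `(e^⊥)^⊥ = ⟨e⟩` -/
theorem perp_perp [FiniteDimensional F V] (hB : NAlt B) {e z : V} (h : ∀ w, B w e = 0 → B w z = 0) :
    ∃ c : F, z = c • e := by
  by_cases he : e = 0
  · refine ⟨0, ?_⟩
    rw [zero_smul]
    refine hB.nd' z fun y => h y ?_
    rw [he, map_zero]
  obtain ⟨f, hf⟩ := hB.exists_one he
  have hf' : B f e ≠ 0 := by
    rw [hB.swap, hf]
    exact neg_ne_zero.2 one_ne_zero
  refine ⟨(B f e)⁻¹ * B f z, ?_⟩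
  rw [← sub_eq_zero]
  apply hB.nd'
  intro y
  -- y = (B y e / B f e) f + w
  have h1 : B (y - (B y e * (B f e)⁻¹) • f) e = 0 := by
    rw [map_sub, LinearMap.sub_apply, map_smul, LinearMap.smul_apply, smul_eq_mul, inv_mul_cancel_right₀ hf', sub_self]
  have h2 := h _ h1
  rw [map_sub, LinearMap.sub_apply, map_smul, LinearMap.smul_apply, smul_eq_mul, sub_eq_zero] at h2
  rw [map_sub, map_smul, smul_eq_mul, h2]
  ring

end qe

section rule

variable {F : Type u} {V : Type v} [Field F] [AddCommGroup V] [Module F V] {B : LinearMap.BilinForm F V}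
  {G : Type*} [Group G] {Ω : Type*} [MulAction G Ω] {N : Subgroup G} {ρ : ↥(Sp B) →* G}

/-- a vector of `e^⊥` outside `⟨e⟩` -/
theorem exists_perp_ne [FiniteDimensional F V] (hd : 4 ≤ finrank F V) (e : V) :
    ∃ w, B w e = 0 ∧ ∀ c : F, w ≠ c • e := by
  by_contra hno
  push Not at hno
  have h1 : LinearMap.ker (B.flip e) ≤ Submodule.span F {e} := by
    intro w hw
    obtain ⟨c, hc⟩ := hno w hw
    rw [hc]
    exact Submodule.smul_mem _ _ (Submodule.mem_span_singleton_self e)
  have h2 := Submodule.finrank_mono h1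
  have h3 : finrank F (Submodule.span F {e}) ≤ 1 := by
    by_cases he : e = 0
    · rw [he, Submodule.span_zero_singleton, finrank_bot]; omega
    · rw [finrank_span_singleton he]
  have h4 := LinearMap.finrank_range_add_finrank_ker (B.flip e)
  have h5 : finrank F (LinearMap.range (B.flip e)) ≤ 1 := by
    calc finrank F (LinearMap.range (B.flip e)) ≤ finrank F F := Submodule.finrank_le _
      _ = 1 := finrank_self F
  omega

/-- **Dichotomy**: an element fixing `⟨e⟩` is in `ρ(Qe)` or `[ρ(Qe), x]` contains the transvections. -/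
theorem SpEnv.dich [FiniteDimensional F V] (E : SpEnv Ω N ρ) (h2 : (2 : F) ≠ 0) {e : V} (he0 : e ≠ 0) {x : G} {M : SS B}
    (h : Lf ρ x M) {μ : F} (he : M e = μ • e) :
    (∃ t ∈ Qe E.form e, x = ρ t) ∨ ∀ c, ρ (tv E.form e c) ∈ cmm ((Qe E.form e).map ρ) x := by
  have hμ : μ ≠ 0 := by
    rintro rfl
    rw [zero_smul] at he
    exact he0 (M.injective (he.trans M.map_zero.symm))
  have hl := M.hl
  set k := M.l⁻¹ * μ with hk
  have hk0 : k ≠ 0 := mul_ne_zero (inv_ne_zero hl) hμ
  have hMw : ∀ w, B w e = 0 → B (M w) e = 0 := by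
    intro w hw
    have h3 : B (M w) (M e) = 0 := by rw [M.form, hw, map_zero, mul_zero]
    rw [he, map_smul, smul_eq_mul] at h3
    exact (mul_eq_zero.1 h3).resolve_left hμ
  by_cases hcase : ∀ w, B w e = 0 → ∃ c : F, w - k • M w = c • e
  · left
    -- `M w ≡ k⁻¹ w` modulo `e`
    have hM1 : ∀ w, B w e = 0 → ∃ c : F, M w = k⁻¹ • w + c • e := by
      intro w hw
      obtain ⟨c, hc⟩ := hcase w hw
      refine ⟨-(k⁻¹ * c), ?_⟩
      have h3 : k • M w = w - c • e := by rw [← hc]; abel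
      have h4 : M w = k⁻¹ • (k • M w) := by rw [smul_smul, inv_mul_cancel₀ hk0, one_smul]
      rw [h4, h3, smul_sub, smul_smul, neg_smul, sub_eq_add_neg]
    obtain ⟨w, hw, hwe⟩ := exists_perp_ne (B := B) E.dim e
    have hσ : ∀ a, M.σ a = a := by
      intro a
      obtain ⟨c, hc⟩ := hM1 w hw
      obtain ⟨c', hc'⟩ := hM1 (a • w) (by rw [map_smul, LinearMap.smul_apply, hw, smul_zero])
      rw [M.map_smul, hc, smul_add, smul_smul, smul_smul, smul_smul] at hc'
      by_contra hne
      apply hwe ((((M.σ a - a) * k⁻¹))⁻¹ * (c' - M.σ a * c))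
      have h3 : ((M.σ a - a) * k⁻¹) • w = (c' - M.σ a * c) • e := by
        have h4 := sub_eq_zero.2 hc'
        rw [← sub_eq_zero, ← h4]
        module
      rw [mul_smul, ← h3, smul_smul, inv_mul_cancel₀ (mul_ne_zero (sub_ne_zero.2 hne) (inv_ne_zero hk0)), one_smul]
    obtain ⟨w', hw', hww⟩ : ∃ w', B w' e = 0 ∧ B w' w ≠ 0 := by
      by_contra hno
      push Not at hno
      obtain ⟨c, hc⟩ := perp_perp E.form hno
      exact hwe c hc
    have hlk : M.l = k⁻¹ * k⁻¹ := by
      obtain ⟨c, hc⟩ := hM1 w hw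
      obtain ⟨c', hc'⟩ := hM1 w' hw'
      have h3 := M.form w' w
      rw [hc, hc', hσ] at h3
      simp only [map_add, LinearMap.add_apply, map_smul, LinearMap.smul_apply, smul_eq_mul, E.form.alt, hw',
        E.form.swap0 hw, mul_zero, add_zero] at h3
      have h4 : (M.l - k⁻¹ * k⁻¹) * B w' w = 0 := by linear_combination -h3
      exact sub_eq_zero.1 ((mul_eq_zero.1 h4).resolve_right hww)
    have hμk : μ = k⁻¹ := by
      have h3 : μ = M.l * k := by rw [hk]; field_simp
      rw [h3, hlk, mul_assoc, inv_mul_cancel₀ hk0, mul_one]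
    -- the isometry `k M`
    let t : Sp B := ⟨{ toFun := fun v => k • M v
                       invFun := fun v => M⁻¹ (k⁻¹ • v)
                       left_inv := fun v => by
                        show M⁻¹ (k⁻¹ • k • M v) = v
                        rw [smul_smul, inv_mul_cancel₀ hk0, one_smul, SS.inv_apply_self]
                       right_inv := fun v => by
                        show k • M (M⁻¹ (k⁻¹ • v)) = v
                        rw [SS.apply_inv_self, smul_smul, mul_inv_cancel₀ hk0, one_smul]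
                       map_add' := fun u v => by rw [M.map_add, smul_add]
                       map_smul' := fun a v => by
                        rw [M.map_smul, hσ, smul_comm, RingHom.id_apply] }, by
      intro u v
      show B (k • M u) (k • M v) = B u v
      rw [map_smul, LinearMap.map_smul₂, M.form, hσ, hlk, smul_eq_mul, smul_eq_mul]
      field_simp⟩
    have ht : ∀ v, t.1 v = k • M v := fun v => rfl
    refine ⟨t, ⟨?_, fun w hw => ?_⟩, E.eq_of_lf h (a := k⁻¹) (inv_ne_zero hk0) fun v => ?_⟩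
    · rw [ht, he, hμk, smul_smul, mul_inv_cancel₀ hk0, one_smul]
    · obtain ⟨c, hc⟩ := hM1 w hw
      exact ⟨k * c, by rw [ht, hc, smul_add, smul_smul, smul_smul, mul_inv_cancel₀ hk0, one_smul]⟩
    · rw [ht, smul_smul, inv_mul_cancel₀ hk0, one_smul]
  · right
    push Not at hcase
    obtain ⟨w, hw, hw1⟩ := hcase
    intro c
    have hkw : B (k • M w) e = 0 := by rw [map_smul, LinearMap.smul_apply, hMw w hw, smul_zero]
    have hnkw : B (-(k • M w)) e = 0 := by rw [map_neg, LinearMap.neg_apply, hkw, neg_zero]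
    -- first commutator
    have h3 : ρ (ph E.form hw (0 : F) * (SS.cj M (ph E.form hw (0 : F)))⁻¹) ∈ cmm ((Qe E.form e).map ρ) x := by
      have h4 := mem_cmm (x := x) (U := (Qe E.form e).map ρ) ⟨_, ph_mem E.form hw 0, rfl⟩
      have h5 : ρ (ph E.form hw 0) * x * (ρ (ph E.form hw 0))⁻¹ * x⁻¹ =
          ρ (ph E.form hw 0 * (SS.cj M (ph E.form hw 0))⁻¹) := by
        rw [map_mul, map_inv, ← h]
        group
      rw [h5] at h4
      exact h4
    rw [cj_ph E.form hw 0 M hμ he hkw, ph_inv, ph_mul] at h3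
    -- second commutator
    set w1 := w + -((M.l⁻¹ * μ) • M w) with hw1def
    obtain ⟨z, hz, hzw⟩ : ∃ z, B z e = 0 ∧ B z w1 ≠ 0 := by
      by_contra hno
      push Not at hno
      obtain ⟨c, hc⟩ := perp_perp E.form hno
      exact hw1 c (by rw [sub_eq_add_neg]; exact hc)
    have hw1e : B w1 e = 0 := by
      rw [hw1def, map_add, LinearMap.add_apply, hw, zero_add]
      exact hnkw
    set d := c * (2 * B w1 z)⁻¹ with hd
    have hz' : B (d • z) e = 0 := by rw [map_smul, LinearMap.smul_apply, hz, smul_zero]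
    have h6 := cmm_comm (U := (Qe E.form e).map ρ) (v := ρ (ph E.form hz' 0)) ⟨_, ph_mem E.form hz' 0, rfl⟩ h3
    rw [← map_inv, ← map_inv, ← map_mul, ← map_mul, ← map_mul, ph_comm] at h6
    have hB1 : B w1 z ≠ 0 := fun h0 => hzw (E.form.swap0 h0)
    have h7 : 2 * B w1 (d • z) = c := by
      rw [map_smul, smul_eq_mul, hd]
      field_simp
    rw [h7] at h6
    exact h6

/-- images of transvections are not trivial -/
theorem SpEnv.tv_ne [FiniteDimensional F V] (E : SpEnv Ω N ρ) {e : V} (he0 : e ≠ 0) {c : F} (hc : c ≠ 0) :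
    ρ (tv E.form e c) ≠ 1 := by
  intro h
  obtain ⟨a, ha⟩ := (E.ker _).1 h
  obtain ⟨w, hw, hwe⟩ := exists_perp_ne (B := B) E.dim e
  have h1 := ha w
  rw [tv_apply, hw, mul_zero, zero_smul, add_zero] at h1
  have ha1 : a = 1 := by
    have h2 : (a - 1) • w = 0 := by rw [sub_smul, one_smul, ← h1, sub_self]
    rcases smul_eq_zero.1 h2 with h3 | h3
    · exact sub_eq_zero.1 h3
    · exact absurd (by rw [h3, zero_smul]) (hwe 0)
  apply tv_ne_one E.form he0 hc
  apply Subtype.ext
  apply LinearEquiv.ext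
  intro v
  rw [ha, ha1, one_smul]
  rfl

theorem SpEnv.Qe_map_pgroup [Finite G] [FiniteDimensional F V] (E : SpEnv Ω N ρ) (e : V) (p : ℕ) [Fact p.Prime]
    [CharP F p] : IsPGroup p ((Qe E.form e).map ρ) :=
  (Qe_pgroup E.form e p).map ρ

theorem SpEnv.Qe_norm (E : SpEnv Ω N ρ) {e : V} {x : G} {M : SS B} (h : Lf ρ x M) {μ : F} (he : M e = μ • e) {u : G}
    (hu : u ∈ (Qe E.form e).map ρ) : x * u * x⁻¹ ∈ (Qe E.form e).map ρ := by
  obtain ⟨t, ht, rfl⟩ := hu
  exact ⟨SS.cj M t, cj_Qe E.form M he ht, (h t).symm⟩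

theorem SpEnv.Qe_tv (E : SpEnv Ω N ρ) {e : V} {c : F} {u : G} (hu : u ∈ (Qe E.form e).map ρ) :
    u * ρ (tv E.form e c) = ρ (tv E.form e c) * u := by
  obtain ⟨t, ht, rfl⟩ := hu
  rw [← map_mul, ← map_mul, Qe_comm E.form ht]

/-- **Box D1 for `p'`-elements.** -/
theorem SpEnv.lr_pprime [Finite G] [Nonempty Ω] [FiniteDimensional F V] (E : SpEnv Ω N ρ) {p : ℕ} [hp : Fact p.Prime]
    [CharP F p] (h2 : (2 : F) ≠ 0) {ι : Type*} [Finite ι] {x : ι → G} {r : ι → ℕ} {M : ι → SS B}
    (hl : ∀ i, Lf ρ (x i) (M i)) (hr : ∀ i, (r i).Prime) (hrp : ∀ i, r i ≠ p) (hx : ∀ i, x i ^ r i = 1)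
    (hx1 : ∀ i, x i ≠ 1) (hc : ∀ i j, x i * x j = x j * x i) {e : V} (he0 : e ≠ 0) {c : F} (hc0 : c ≠ 0)
    (he : ∀ i, ∃ μ : F, M i e = μ • e) (hcov : ∀ ω : Ω, ρ (tv E.form e c) • ω = ω ∨ ∃ i, x i • ω = ω) : False := by
  have hpg := E.Qe_map_pgroup e p
  have hco : ∀ i, (r i).Coprime (Nat.card ((Qe E.form e).map ρ)) := by
    intro i
    obtain ⟨k, hk⟩ := IsPGroup.iff_card.1 hpg
    rw [hk]
    exact Nat.Coprime.pow_right _ ((Nat.coprime_primes (hr i) hp.out).2 (hrp i))
  refine not_cov_lr E.env hr hx hc (U := (Qe E.form e).map ρ) hcov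
    (fun i u hu => ?_) (IsPGroup.isNilpotent hpg) hco (fun u hu => E.Qe_tv hu) (E.tv_ne he0 hc0) (fun i => ?_)
  · obtain ⟨μ, hμ⟩ := he i
    exact E.Qe_norm (hl i) hμ hu
  · obtain ⟨μ, hμ⟩ := he i
    rcases E.dich h2 he0 (hl i) hμ with ⟨t, ht, hxt⟩ | h
    · exfalso
      have h3 : orderOf (x i) ∣ Nat.card ((Qe E.form e).map ρ) := by
        have h4 : x i ∈ (Qe E.form e).map ρ := ⟨t, ht, hxt.symm⟩
        have h5 := orderOf_dvd_natCard (⟨x i, h4⟩ : (Qe E.form e).map ρ)
        rwa [Subgroup.orderOf_mk] at h5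
      have h4 : orderOf (x i) ∣ r i := orderOf_dvd_of_pow_eq_one (hx i)
      have h5 := Nat.eq_one_of_dvd_coprimes (hco i) h4 h3
      exact hx1 i (orderOf_eq_one_iff.1 h5)
    · exact h c

/-- **Box D1 for one element** (no condition on the order). -/
theorem SpEnv.lr_single [Nonempty Ω] [FiniteDimensional F V] (E : SpEnv Ω N ρ) (h2 : (2 : F) ≠ 0) {x : G}
    {M : SS B} (hl : Lf ρ x M) {e : V} (he0 : e ≠ 0) {c : F} (hc0 : c ≠ 0) {μ : F} (he : M e = μ • e)
    (hne : ∀ c', x ≠ ρ (tv E.form e c')) (hcov : ∀ ω : Ω, ρ (tv E.form e c) • ω = ω ∨ x • ω = ω) : False := by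
  refine not_cov_one E.env (U := (Qe E.form e).map ρ) hcov (fun u hu => E.Qe_tv hu) (E.tv_ne he0 hc0) ?_
  rcases E.dich h2 he0 hl he with ⟨t, ht, hxt⟩ | h
  · -- `x = ρ t`, `t ∈ Qe`, not in the root group
    have hcase : ∃ w, B w e = 0 ∧ t.1 w ≠ w := by
      by_contra hno
      push Not at hno
      -- `t` is trivial on `e^⊥`, hence a transvection
      obtain ⟨f, hf⟩ := E.form.exists_one he0
      have hf' : B f e = -1 := by rw [E.form.swap, hf]
      have h3 : ∀ w, B w e = 0 → B w (t.1 f - f) = 0 := by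
        intro w hw
        have h4 := t.2 w f
        rw [hno w hw] at h4
        rw [map_sub, h4, sub_self]
      obtain ⟨d, hd⟩ := perp_perp E.form h3
      apply hne (-d)
      rw [hxt]
      congr 1
      apply Subtype.ext
      apply LinearEquiv.ext
      intro y
      have h4 : B (y + B y e • f) e = 0 := by
        rw [map_add, LinearMap.add_apply, map_smul, LinearMap.smul_apply, hf', smul_eq_mul]
        ring
      have h5 := hno _ h4
      rw [map_add, map_smul] at h5
      have h6 : t.1 f = f + d • e := by rw [← hd]; abel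
      rw [h6] at h5
      rw [tv_apply]
      have h7 : t.1 y = y + B y e • f - B y e • (f + d • e) := by rw [← h5]; abel
      rw [h7]
      module
    obtain ⟨w, hw, hwt⟩ := hcase
    obtain ⟨d, hd⟩ := ht.2 w hw
    have hd0 : d ≠ 0 := by
      rintro rfl
      rw [zero_smul, add_zero] at hd
      exact hwt hd
    -- commutator with `ph (a • w)`
    set a := -(c * (2 * d)⁻¹) with ha
    have haw : B (a • w) e = 0 := by rw [map_smul, LinearMap.smul_apply, hw, smul_zero]
    have h3 := mem_cmm (x := x) (U := (Qe E.form e).map ρ) ⟨_, ph_mem E.form haw 0, rfl⟩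
    have h4 : ρ (ph E.form haw 0) * x * (ρ (ph E.form haw 0))⁻¹ * x⁻¹ = ρ (tv E.form e c) := by
      rw [hxt, ← map_inv, ← map_inv, ← map_mul, ← map_mul, ← map_mul]
      congr 1
      have h5 : ph E.form haw 0 * t * (ph E.form haw 0)⁻¹ * t⁻¹ =
          ph E.form haw 0 * (SS.cj (SS.tg t) (ph E.form haw 0))⁻¹ := by
        rw [SS.cj_tg]; group
      have h6 : (SS.tg t) e = (1 : F) • e := by rw [one_smul]; exact ht.1
      have hMa : (SS.tg t) (a • w) = a • w + (a * d) • e := by
        show t.1 (a • w) = _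
        rw [map_smul, hd, smul_add, smul_smul]
      have hl1 : (SS.tg t).l = 1 := rfl
      have h7 : B (((SS.tg t).l⁻¹ * 1) • (SS.tg t) (a • w)) e = 0 := by
        rw [hMa, hl1, inv_one, mul_one, one_smul, map_add, LinearMap.add_apply, haw, map_smul, LinearMap.smul_apply,
          E.form.alt, smul_zero, add_zero]
      rw [h5, cj_ph E.form haw 0 (SS.tg t) one_ne_zero h6 h7, ph_inv, ph_mul]
      have h0 : B ((-(a * d)) • e) e = 0 := by rw [map_smul, LinearMap.smul_apply, E.form.alt, smul_zero]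
      have h8 : tv E.form e c = ph E.form h0 0 := by
        apply Subtype.ext
        apply LinearEquiv.ext
        intro y
        rw [tv_apply, ph_apply, map_smul, smul_eq_mul, zero_mul, add_zero, smul_smul, add_assoc, ← add_smul]
        congr 2
        rw [ha]
        field_simp
        ring
      rw [h8]
      apply ph_congr
      · rw [hMa, hl1, inv_one, mul_one, one_smul]
        module
      · rw [hMa, hl1, map_zero]
        simp only [map_neg, LinearMap.neg_apply, map_smul, LinearMap.smul_apply, map_add, LinearMap.add_apply,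
          smul_eq_mul, E.form.alt, hw, E.form.swap0 hw]
        ring
    rw [h4] at h3
    exact h3
  · exact h c

/-- box D1, form of the stubs -/
theorem lr_tv [Finite G] [Nonempty Ω] [Finite F] [FiniteDimensional F V] {ι : Type*} [Finite ι] {x : ι → G} {r : ι → ℕ}
    {M : ι → SS B} (E : SpEnv Ω N ρ) (h2 : (2 : F) ≠ 0) (hr : ∀ i, (r i).Prime) (hx : ∀ i, x i ^ r i = 1)
    (hc : ∀ i j, x i * x j = x j * x i) (hne : ∀ i, x i ≠ 1) (hM : ∀ i, Lf ρ (x i) (M i))
    {e : V} (he : e ≠ 0) {c : F} (hc0 : c ≠ 0) (hcov : ∀ ω : Ω, ρ (tv E.form e c) • ω = ω ∨ ∃ i, x i • ω = ω)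
    (hfix : ∀ i, ∃ a : F, M i e = a • e) (hrp : ∀ i, (r i).Coprime (Nat.card F)) : False := by
  obtain ⟨p, hp⟩ := CharP.exists F
  have : Fintype F := Fintype.ofFinite F
  have hpp : p.Prime := CharP.char_is_prime F p
  have : Fact p.Prime := ⟨hpp⟩
  refine E.lr_pprime (p := p) h2 hM hr (fun i h => ?_) hx hne hc he hc0 hfix hcov
  have h1 : p ∣ Nat.card F := by
    rw [Nat.card_eq_fintype_card]
    obtain ⟨n, -, hn⟩ := FiniteField.card F p
    rw [hn]
    exact dvd_pow_self p n.2.ne'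
  have h3 := hrp i
  rw [h] at h3
  exact hpp.one_lt.ne' (Nat.eq_one_of_dvd_coprimes h3 dvd_rfl h1)

theorem lr_tv_one [Nonempty Ω] [FiniteDimensional F V] (E : SpEnv Ω N ρ) (h2 : (2 : F) ≠ 0) {x : G} {M : SS B}
    (hM : Lf ρ x M) {e : V} (he : e ≠ 0) {c : F} (hc0 : c ≠ 0)
    (hcov : ∀ ω : Ω, ρ (tv E.form e c) • ω = ω ∨ x • ω = ω)
    (hfix : ∃ a : F, M e = a • e) (hne : ∀ c' : F, x ≠ ρ (tv E.form e c')) : False := by
  obtain ⟨a, ha⟩ := hfix
  exact E.lr_single h2 hM he hc0 ha hne hcov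

end rule

end Cfsg.Agent.H520.RC
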