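import Cfsg.Agent.H138.RC.Base
import Cfsg.Agent.H520.RC.MHom
import Cfsg.Agent.H749.BlockOrth
import Cfsg.Agent.H297.RC.LR

/-!
# S3510, row F, even dimension: box B (helper520)

`V = W + W'`, both totally singular, all lifts preserve `W` and `W'`. The group `SL(W)` acts on `V`.
-/

set_option autoImplicit false
open Cfsg

namespace Cfsg.Agent.H520.RC

open QuadraticMap MulAction
open Cfsg.Agent.LieClassical.OrthCore Cfsg.Agent.LieClassical.OrthTrans
open Cfsg.Agent.LieClassical.OrthSimple Cfsg.Agent.ClassicalGeometry.OrthSemi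
open Cfsg.Agent.ClassicalGeometry.OrthAut1 Cfsg.Agent.H106.RC Cfsg.Agent.H93.RC Cfsg.Agent.H188.RC
open Cfsg.Agent.H138.RC

/-- a polarisation of the quadratic space -/
structure Pol {F V : Type*} [Field F] [AddCommGroup V] [Module F V] (Q : QuadraticForm F V)
    (W W' : Submodule F V) : Prop where
  nd : Nondeg Q
  compl : IsCompl W W'
  sing : ∀ v ∈ W, Q v = 0
  sing' : ∀ v ∈ W', Q v = 0

namespace Pol

variable {F V : Type*} [Field F] [AddCommGroup V] [Module F V] {Q : QuadraticForm F V} {W W' : Submodule F V}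

theorem symm (h : Pol Q W W') : Pol Q W' W := ⟨h.nd, h.compl.symm, h.sing', h.sing⟩

theorem p0 (h : Pol Q W W') {u v : V} (hu : u ∈ W) (hv : v ∈ W) : polar Q u v = 0 := by
  rw [polar, h.sing _ (W.add_mem hu hv), h.sing _ hu, h.sing _ hv]
  simp

theorem decomp (h : Pol Q W W') (v : V) : ∃ (w : W) (w' : W'), v = w + w' := by
  have h1 : v ∈ W ⊔ W' := by rw [h.compl.sup_eq_top]; trivial
  obtain ⟨w, hw, w', hw', rfl⟩ := Submodule.mem_sup.1 h1
  exact ⟨⟨w, hw⟩, ⟨w', hw'⟩, rfl⟩

/-- an element of `W'` orthogonal to `W` is zero -/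
theorem zero_of (h : Pol Q W W') {v : V} (hv : v ∈ W') (h0 : ∀ w ∈ W, polar Q v w = 0) : v = 0 := by
  apply h.nd
  intro y
  obtain ⟨w, w', rfl⟩ := h.decomp y
  rw [polar_add_right, h0 w w.2, h.symm.p0 hv w'.2, add_zero]

/-- the pairing -/
def pr (Q : QuadraticForm F V) (W W' : Submodule F V) : W' →ₗ[F] Module.Dual F W :=
  W.subtype.dualMap ∘ₗ (polarBilin Q) ∘ₗ W'.subtype

theorem pr_apply (w' : W') (w : W) : pr Q W W' w' w = polar Q (w' : V) w := rfl

theorem pr_injective (h : Pol Q W W') : Function.Injective (pr Q W W') := by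
  rw [injective_iff_map_eq_zero]
  intro w' hw'
  apply Subtype.ext
  apply h.zero_of w'.2
  intro w hw
  exact LinearMap.congr_fun hw' ⟨w, hw⟩

variable [FiniteDimensional F V]

theorem finrank_le (h : Pol Q W W') : Module.finrank F W' ≤ Module.finrank F W := by
  have h1 := LinearMap.finrank_le_finrank_of_injective h.pr_injective
  rwa [Subspace.dual_finrank_eq] at h1

theorem finrank_eq (h : Pol Q W W') : Module.finrank F W' = Module.finrank F W :=
  le_antisymm h.finrank_le h.symm.finrank_le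

theorem two_mul (h : Pol Q W W') : 2 * Module.finrank F W = Module.finrank F V := by
  have h1 := Submodule.finrank_add_eq_of_isCompl h.compl
  have h2 := h.finrank_eq
  omega

/-- the pairing as an equivalence -/
noncomputable def D (h : Pol Q W W') : W' ≃ₗ[F] Module.Dual F W :=
  LinearMap.linearEquivOfInjective (pr Q W W') h.pr_injective (by rw [Subspace.dual_finrank_eq, h.finrank_eq])

theorem D_apply (h : Pol Q W W') (w' : W') (w : W) : h.D w' w = polar Q (w' : V) w := rfl

/-- the contragredient -/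
noncomputable def star (h : Pol Q W W') (a : W ≃ₗ[F] W) : W' ≃ₗ[F] W' :=
  h.D ≪≫ₗ a.symm.dualMap ≪≫ₗ h.D.symm

theorem star_apply (h : Pol Q W W') (a : W ≃ₗ[F] W) (w' : W') (w : W) :
    polar Q (h.star a w' : V) (a w) = polar Q (w' : V) w := by
  rw [← h.D_apply, ← h.D_apply]
  show h.D (h.D.symm (a.symm.dualMap (h.D w'))) (a w) = _
  rw [LinearEquiv.apply_symm_apply, LinearEquiv.dualMap_apply, LinearEquiv.symm_apply_apply]

/-- the action of `GL(W)` on `V` -/
noncomputable def psi (h : Pol Q W W') (a : W ≃ₗ[F] W) : V ≃ₗ[F] V :=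
  (Submodule.prodEquivOfIsCompl W W' h.compl).symm ≪≫ₗ (a.prodCongr (h.star a)) ≪≫ₗ
    Submodule.prodEquivOfIsCompl W W' h.compl

theorem psi_apply (h : Pol Q W W') (a : W ≃ₗ[F] W) (w : W) (w' : W') :
    h.psi a (w + w') = a w + h.star a w' := by
  have h1 : (Submodule.prodEquivOfIsCompl W W' h.compl).symm ((w : V) + (w' : V)) = (w, w') := by
    rw [LinearEquiv.symm_apply_eq]
    rfl
  show Submodule.prodEquivOfIsCompl W W' h.compl
    ((a.prodCongr (h.star a)) ((Submodule.prodEquivOfIsCompl W W' h.compl).symm ((w : V) + (w' : V)))) = _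
  rw [h1]
  rfl

theorem psi_left (h : Pol Q W W') (a : W ≃ₗ[F] W) (w : W) : h.psi a w = a w := by
  have h1 := h.psi_apply a w 0
  rwa [map_zero, Submodule.coe_zero, add_zero, add_zero] at h1

theorem psi_right (h : Pol Q W W') (a : W ≃ₗ[F] W) (w' : W') : h.psi a w' = h.star a w' := by
  have h1 := h.psi_apply a 0 w'
  rwa [map_zero, Submodule.coe_zero, zero_add, zero_add] at h1

omit [FiniteDimensional F V] in
theorem Q_sum (h : Pol Q W W') (w : W) (w' : W') : Q ((w : V) + w') = polar Q (w' : V) w := by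
  rw [Q_add, h.sing w w.2, h.sing' w' w'.2, polar_comm]
  simp

theorem psi_mem_O (h : Pol Q W W') (a : W ≃ₗ[F] W) : h.psi a ∈ O Q := by
  rw [mem_O]
  intro v
  obtain ⟨w, w', rfl⟩ := h.decomp v
  rw [psi_apply, h.Q_sum, h.Q_sum, star_apply]

/-- uniqueness -/
theorem psi_unique (h : Pol Q W W') {g : V ≃ₗ[F] V} (hg : g ∈ O Q) (a : W ≃ₗ[F] W) (h1 : ∀ w : W, g w = a w)
    (h2 : ∀ w' ∈ W', g w' ∈ W') : g = h.psi a := by
  apply LinearEquiv.ext
  intro v
  obtain ⟨w, w', rfl⟩ := h.decomp v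
  rw [psi_apply, map_add, h1]
  congr 1
  rw [← sub_eq_zero]
  apply h.zero_of (W'.sub_mem (h2 w' w'.2) (Subtype.mem _))
  intro u hu
  obtain ⟨u', hu'⟩ := a.surjective ⟨u, hu⟩
  have e1 : u = a u' := by rw [hu']
  rw [e1, polar_sub_left, star_apply, ← h1, polar_map hg, sub_self]

theorem psi_mul (h : Pol Q W W') (a b : W ≃ₗ[F] W) : h.psi (a * b) = h.psi a * h.psi b := by
  symm
  apply h.psi_unique ((O Q).mul_mem (h.psi_mem_O a) (h.psi_mem_O b))
  · intro w
    show h.psi a (h.psi b w) = a (b w)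
    rw [psi_left, psi_left]
  · intro w' hw'
    show h.psi a (h.psi b w') ∈ W'
    rw [h.psi_right b ⟨w', hw'⟩, psi_right]
    exact Subtype.mem _

/-- as a homomorphism -/
noncomputable def psiH (h : Pol Q W W') : (W ≃ₗ[F] W) →* (V ≃ₗ[F] V) :=
  MonoidHom.mk' h.psi h.psi_mul

theorem psiH_apply (h : Pol Q W W') (a : W ≃ₗ[F] W) : h.psiH a = h.psi a := rfl

theorem psi_injective (h : Pol Q W W') : Function.Injective h.psi := by
  intro a b hab
  apply LinearEquiv.ext
  intro w
  apply Subtype.ext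
  rw [← h.psi_left, ← h.psi_left, hab]

/-- `SL(W)` in the isometry group -/
noncomputable def slO (h : Pol Q W W') : SpecialLinearGroup F W →* (V ≃ₗ[F] V) :=
  h.psiH.comp SpecialLinearGroup.toLinearEquiv

theorem slO_apply (h : Pol Q W W') (s : SpecialLinearGroup F W) : h.slO s = h.psi (s : W ≃ₗ[F] W) := rfl

theorem slO_injective (h : Pol Q W W') : Function.Injective h.slO := by
  intro s t hst
  exact Subtype.ext (h.psi_injective hst)

theorem slO_mem_E (h : Pol Q W W') (hG : Good Q) (h3 : 3 ≤ Module.finrank F W) (s : SpecialLinearGroup F W) :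
    h.slO s ∈ E Q := by
  have h1 : h.slO.range ≤ E Q := by
    have h2 : h.slO.range ≤ O Q := by
      rintro _ ⟨t, rfl⟩
      exact h.psi_mem_O _
    have h4 : ⁅h.slO.range, h.slO.range⁆ = h.slO.range := by
      have h5 := sl_perfect (F := F) (W := W) h3
      rw [commutator_def] at h5
      rw [MonoidHom.range_eq_map h.slO, ← Subgroup.map_commutator, h5]
    rw [← h4, Subgroup.commutator_le]
    intro a ha b hb
    exact H749.comm_mem_E hG (h2 ha) (h2 hb)
  exact h1 ⟨s, rfl⟩

/-- `SL(W) →* E Q` -/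
noncomputable def slE (h : Pol Q W W') (hG : Good Q) (h3 : 3 ≤ Module.finrank F W) :
    SpecialLinearGroup F W →* ↥(E Q) := h.slO.codRestrict (E Q) (h.slO_mem_E hG h3)

theorem slE_coe (h : Pol Q W W') (hG : Good Q) (h3 : 3 ≤ Module.finrank F W) (s : SpecialLinearGroup F W) :
    (h.slE hG h3 s : V ≃ₗ[F] V) = h.psi (s : W ≃ₗ[F] W) := rfl

theorem slE_injective (h : Pol Q W W') (hG : Good Q) (h3 : 3 ≤ Module.finrank F W) :
    Function.Injective (h.slE hG h3) := by
  intro s t hst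
  exact h.slO_injective (congrArg Subtype.val hst)

/-- the Siegel elements of `W`, `W'` -/
theorem exists_sg (h : Pol Q W W') (hG : Good Q) (h3 : 3 ≤ Module.finrank F W) {u w : V} (hu : u ∈ W) (hw : w ∈ W')
    (hu0 : Q u = 0) (huw : polar Q u w = 0) :
    ∃ s, h.slE hG h3 s = AutOrth.SemiSim.sg Q u w hu0 huw := by
  let f : Module.Dual F W := -(pr Q W W' ⟨w, hw⟩)
  have hf : f ⟨u, hu⟩ = 0 := by
    show -(polar Q w u) = 0
    rw [polar_comm, huw, neg_zero]
  let t : W ≃ₗ[F] W := LinearEquiv.transvection hf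
  have ht : ∀ v : W, t v = v + f v • (⟨u, hu⟩ : W) := fun v => rfl
  have hdet : LinearEquiv.det t = 1 := LinearEquiv.transvection.det_eq_one hf
  refine ⟨⟨t, hdet⟩, ?_⟩
  apply Subtype.ext
  rw [slE_coe]
  symm
  apply h.psi_unique (E_le_O (AutOrth.SemiSim.sg Q u w hu0 huw).2)
  · intro v
    rw [AutOrth.SemiSim.sg_apply]
    show _ = ((t v : W) : V)
    rw [ht, h.p0 hu v.2]
    show _ = (v : V) + (-(polar Q w v)) • u
    simp only [zero_smul, add_zero, mul_zero, sub_zero, neg_smul]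
    rw [sub_eq_add_neg]
  · intro v hv
    rw [AutOrth.SemiSim.sg_apply, h.symm.p0 hw hv, h.sing' w hw]
    simp only [zero_smul, zero_mul, sub_zero]
    exact W'.add_mem hv (W'.smul_mem _ hw)

/-! ### Semisimilitudes preserving `W` and `W'` -/

omit [FiniteDimensional F V] in
/-- the restriction to `W` of a linear similitude -/
theorem exists_lin [Finite V] {M : Gam Q} (hlin : IsLin M) {W : Submodule F V} (hi : ∀ v ∈ W, M.1 v ∈ W) :
    ∃ A : W ≃ₗ[F] W, ∀ w : W, (A w : V) = M.1 w := by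
  let f : W →ₗ[F] W :=
    { toFun := fun w => ⟨M.1 w, hi w w.2⟩
      map_add' := fun a b => Subtype.ext (add_of_mem M.2 a b)
      map_smul' := fun a v => Subtype.ext (hlin a v) }
  have hinj : Function.Injective f := by
    intro a b hab
    exact Subtype.ext (M.1.injective (congrArg Subtype.val hab))
  exact ⟨LinearEquiv.ofBijective f (Finite.injective_iff_bijective.mp hinj), fun w => rfl⟩

/-- conjugation of `SL(W)` -/
theorem conj_slE [Finite V] (h : Pol Q W W') (hG : Good Q) (h3 : 3 ≤ Module.finrank F W) {M : Gam Q}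
    (hlin : IsLin M) {A : W ≃ₗ[F] W} (hA : ∀ w : W, (A w : V) = M.1 w) (hi' : ∀ v ∈ W', M.1 v ∈ W')
    (s : SpecialLinearGroup F W) :
    ∃ t : SpecialLinearGroup F W, conjE Q M (h.slE hG h3 s) = h.slE hG h3 t ∧
      (t : W ≃ₗ[F] W) = A * (s : W ≃ₗ[F] W) * A⁻¹ := by
  have hdet : LinearEquiv.det (A * (s : W ≃ₗ[F] W) * A⁻¹) = 1 := by
    rw [map_mul, map_mul, map_inv, SpecialLinearGroup.det_coe, mul_one, mul_inv_cancel]
  refine ⟨⟨A * (s : W ≃ₗ[F] W) * A⁻¹, hdet⟩, ?_, rfl⟩
  apply Subtype.ext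
  rw [slE_coe]
  apply h.psi_unique (E_le_O (conjE Q M (h.slE hG h3 s)).2)
  · intro w
    obtain ⟨w, rfl⟩ := A.surjective w
    rw [coe_conjE, slE_coe, hA, conjLin_apply', psi_left, ← hA]
    show ((A (s.1 w) : W) : V) = ((A (s.1 (A.symm (A w))) : W) : V)
    rw [LinearEquiv.symm_apply_apply]
  · intro w' hw'
    obtain ⟨A', hA'⟩ := exists_lin hlin hi'
    obtain ⟨u, hu⟩ := A'.surjective ⟨w', hw'⟩
    have e1 : w' = M.1 u := by rw [← hA', hu]
    rw [e1, coe_conjE, slE_coe, conjLin_apply', psi_right]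
    exact hi' _ (Subtype.mem _)

end Pol

/-- a linear equivalence commuting with all transvections is a scalar -/
theorem scal_of_comm_sl {F W : Type*} [Field F] [AddCommGroup W] [Module F W] [FiniteDimensional F W]
    (h2 : 2 ≤ Module.finrank F W) (A : W ≃ₗ[F] W)
    (hA : ∀ s : SpecialLinearGroup F W, A * (s : W ≃ₗ[F] W) = (s : W ≃ₗ[F] W) * A) :
    ∃ a : F, ∀ w, A w = a • w := by
  have key : ∀ w : W, ¬ LinearIndependent F ![w, (A : W →ₗ[F] W) w] := by
    intro w hli
    have hw : w ≠ 0 := hli.ne_zero 0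
    -- a functional vanishing on `w` and not on ...
    obtain ⟨f, hf0, hf⟩ : ∃ f : Module.Dual F W, f ≠ 0 ∧ f w = 0 := by
      have h1 : (F ∙ w : Submodule F W) ≠ ⊤ := by
        intro h1
        have h3 : Module.finrank F (F ∙ w : Submodule F W) = Module.finrank F W := by rw [h1, finrank_top]
        rw [finrank_span_singleton hw] at h3
        omega
      obtain ⟨f, hf0, hf⟩ := Submodule.exists_le_ker_of_lt_top (F ∙ w) (lt_top_iff_ne_top.2 h1)
      exact ⟨f, hf0, hf (Submodule.mem_span_singleton_self w)⟩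
    obtain ⟨v, hv⟩ : ∃ v, f v ≠ 0 := by
      by_contra hno
      push Not at hno
      exact hf0 (LinearMap.ext hno)
    let t : SpecialLinearGroup F W := ⟨LinearEquiv.transvection hf, LinearEquiv.transvection.det_eq_one hf⟩
    have h4 := LinearEquiv.congr_fun (hA t) v
    have h5 : A (v + f v • w) = A v + f (A v) • w := h4
    rw [map_add, map_smul, add_right_inj] at h5
    rw [LinearIndependent.pair_iff] at hli
    have h6 := hli (-(f (A v))) (f v) (by
      rw [neg_smul]
      show -(f (A v) • w) + f v • A w = 0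
      rw [h5]; simp)
    exact hv h6.2
  obtain ⟨a, ha⟩ := LinearMap.exists_eq_smul_id_of_forall_notLinearIndependent key
  exact ⟨a, fun w => by
    have h1 := LinearMap.congr_fun ha w
    exact h1⟩

section main

variable {F V G Ω : Type} [Field F] [Finite F] [AddCommGroup V] [Module F V] [FiniteDimensional F V]
  {Q : QuadraticForm F V} [Group G] [Finite G] [MulAction G Ω] [Nonempty Ω]
  {N : Subgroup G} {ρ : ↥(E Q) →* G}

/-- box F1 in the form `LR` -/
theorem lr_of (hG : Good Q) (hE : Env G Ω N) (hρ : Rep Q N ρ) {p : ℕ} [CharP F p] : LR Q Ω ρ p :=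
  fun _ _ _ _ _ hl hr hrp hy hy1 hc _ _ hu hw huw hu0 hind hL hcov =>
    H297.RC.box_LR hG hE hρ hl hr hrp hy hy1 hc hu hw huw hu0 hind hL hcov

omit [Nonempty Ω] in
/-- **BOX B** from box F1. -/
theorem box_B_of (hG : Good Q) (hE : Env G Ω N) (hρ : Rep Q N ρ)
    (hIH : IH (Nat.card (P Q)))
    {p : ℕ} [CharP F p] (hLR : LR Q Ω ρ p) {ι : Type} [Finite ι] {x : ι → G} {M : ι → Gam Q} {r : ι → ℕ}
    (hl : ∀ i, Lf ρ (x i) (M i)) (hlin : ∀ i, IsLin (M i)) (hx : PF x r) (hcov : Cov Ω x)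
    (h8 : 8 ≤ Module.finrank F V) (h82 : ¬ (Nat.card F = 2 ∧ Module.finrank F V = 8))
    (W W' : Submodule F V) (hWW : IsCompl W W') (hW : ∀ v ∈ W, Q v = 0) (hW' : ∀ v ∈ W', Q v = 0)
    (hi : ∀ i, ∀ v ∈ W, (M i).1 v ∈ W) (hi' : ∀ i, ∀ v ∈ W', (M i).1 v ∈ W') : False := by
  have hfV : Finite V := Module.finite_of_finite F
  have h : Pol Q W W' := ⟨hG.nondeg, hWW, hW, hW'⟩
  have hdim := h.two_mul
  have hdim' := h.finrank_eq
  have h3 : 3 ≤ Module.finrank F W := by omega
  have hfP := Cfsg.Agent.H236.RC.finite_P (Q := Q)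
  have hfE := Cfsg.Agent.H236.RC.finite_E (Q := Q)
  let j : SpecialLinearGroup F W →* G := ρ.comp (h.slE hG h3)
  have hj : ∀ s, j s = ρ (h.slE hG h3 s) := fun s => rfl
  have hjN : j.range ≤ N := by
    rintro _ ⟨s, rfl⟩
    rw [← hρ.range]
    exact ⟨_, rfl⟩
  have hjk : j.ker ≤ Subgroup.center (SpecialLinearGroup F W) := by
    intro s hs
    have h1 : h.slE hG h3 s ∈ Subgroup.center ↥(E Q) := by
      rw [← hρ.ker, MonoidHom.mem_ker]
      exact hs
    rw [Subgroup.mem_center_iff]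
    intro t
    apply h.slE_injective hG h3
    rw [map_mul, map_mul, Subgroup.mem_center_iff.1 h1]
  -- a second independent vector
  have hind2 : ∀ (U : Submodule F V), 3 ≤ Module.finrank F U → ∀ u : U, ∃ w : U, ∀ a : F, w ≠ a • u := by
    intro U hU u
    by_contra hno
    push Not at hno
    have h1 : Module.finrank F U ≤ 1 := finrank_le_one u fun w => by
      obtain ⟨a, ha⟩ := hno w
      exact ⟨a, ha.symm⟩
    omega
  have hnt' : Nontrivial W' := Module.nontrivial_of_finrank_pos (R := F) (by omega)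
  have hnt : Nontrivial W := Module.nontrivial_of_finrank_pos (R := F) (by omega)
  have hne : j.range ≠ N := by
    intro heq
    obtain ⟨u, hu⟩ := exists_ne (0 : W')
    obtain ⟨w, hw⟩ := hind2 W' (by omega) u
    have hu0 : Q (u : V) = 0 := hW' u u.2
    have huw : polar Q (u : V) w = 0 := h.symm.p0 u.2 w.2
    have h1 : ρ (AutOrth.SemiSim.sg Q u w hu0 huw) ∈ j.range := by
      rw [heq, ← hρ.range]
      exact ⟨_, rfl⟩
    obtain ⟨s, hs⟩ := h1
    have h2 : (h.slE hG h3 s)⁻¹ * AutOrth.SemiSim.sg Q u w hu0 huw ∈ Subgroup.center ↥(E Q) := by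
      rw [← hρ.ker, MonoidHom.mem_ker, map_mul, map_inv, ← hs, hj, inv_mul_cancel]
    obtain ⟨a, -, ha⟩ := scal_of_center hG h2
    -- the Siegel element preserves `W`
    have h4 : ∀ v : W, (AutOrth.SemiSim.sg Q u w hu0 huw : V ≃ₗ[F] V) v ∈ W := by
      intro v
      have h5 : (AutOrth.SemiSim.sg Q u w hu0 huw : V ≃ₗ[F] V) v =
          (h.slE hG h3 s : V ≃ₗ[F] V) (a • (v : V)) := by
        rw [← ha]
        show _ = (h.slE hG h3 s : V ≃ₗ[F] V) ((h.slE hG h3 s : V ≃ₗ[F] V)⁻¹ (_ : V))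
        exact ((h.slE hG h3 s : V ≃ₗ[F] V).apply_symm_apply _).symm
      rw [h5, map_smul, Pol.slE_coe, Pol.psi_left]
      exact W.smul_mem _ (Subtype.mem _)
    -- a vector of `W` not orthogonal to `u`
    obtain ⟨v, hv⟩ : ∃ v : W, polar Q (u : V) v ≠ 0 := by
      by_contra hno
      push Not at hno
      apply hu
      apply Subtype.ext
      exact h.zero_of u.2 fun v hv => hno ⟨v, hv⟩
    have h6 := h4 v
    rw [AutOrth.SemiSim.sg_apply, hW' w w.2, zero_mul, zero_smul, sub_zero] at h6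
    have h7 : polar Q (u : V) v • (w : V) - polar Q (w : V) v • (u : V) ∈ W := by
      have := W.sub_mem h6 v.2
      rwa [add_sub_assoc, add_sub_cancel_left] at this
    have h8 : polar Q (u : V) v • (w : V) - polar Q (w : V) v • (u : V) ∈ W' :=
      W'.sub_mem (W'.smul_mem _ w.2) (W'.smul_mem _ u.2)
    have h9 := Submodule.disjoint_def.1 hWW.disjoint _ h7 h8
    apply hw ((polar Q (u : V) v)⁻¹ * polar Q (w : V) v)
    apply Subtype.ext
    show (w : V) = ((polar Q (u : V) v)⁻¹ * polar Q (w : V) v) • (u : V)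
    rw [mul_smul, ← sub_eq_zero.1 h9, smul_smul, inv_mul_cancel₀ hv, one_smul]
  -- restrictions of the lifts
  choose A hA using fun i => Pol.exists_lin (hlin i) (hi i)
  have hconj : ∀ i s, ∃ t : SpecialLinearGroup F W, x i * j s * (x i)⁻¹ = j t ∧
      (t : W ≃ₗ[F] W) = A i * (s : W ≃ₗ[F] W) * (A i)⁻¹ := by
    intro i s
    obtain ⟨t, ht1, ht2⟩ := h.conj_slE hG h3 (hlin i) (hA i) (hi' i) s
    exact ⟨t, by rw [hj, hl i, ht1, hj], ht2⟩
  obtain ⟨f, hf, hfk⟩ := exists_sl_hom (F := F) (W := W)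
  have e : N ≃* P Q := by
    have h1 : P Q ≃* ρ.range :=
      (QuotientGroup.quotientMulEquivOfEq hρ.ker.symm).trans (QuotientGroup.quotientKerEquivRange ρ)
    exact (h1.trans (MulEquiv.subgroupCongr hρ.range)).symm
  have hrule := mrule_hom (Ω := Ω) hIH e j hjN hne (sl_perfect h3) f hf hfk hjk (psl_simple3 h3) (psl_ncomm3 h3)
    (psl_cl3 h3) (psl_not_exc3 h3 (fun h4 => h82 ⟨h4.2, by omega⟩)) hx hcov
    (fun i a => by obtain ⟨t, ht, -⟩ := hconj i a; exact ⟨t, ht⟩)
  -- members centralising `M`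
  have hJ : ∀ i, (∀ a, x i * j a = j a * x i) → ∃ α β : F, (∀ v ∈ W, (M i).1 v = α • v) ∧
      (∀ v ∈ W', (M i).1 v = β • v) := by
    intro i hc
    have hcomm : ∀ m ∈ (SpecialLinearGroup.toLinearEquiv : SpecialLinearGroup F W →* (W ≃ₗ[F] W)).range,
        A i * m = m * A i := by
      have hval : ∀ m ∈ (SpecialLinearGroup.toLinearEquiv : SpecialLinearGroup F W →* (W ≃ₗ[F] W)).range,
          ∃ z ∈ Subgroup.center (SpecialLinearGroup F W), A i * m * (A i)⁻¹ * m⁻¹ = (z : W ≃ₗ[F] W) := by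
        rintro _ ⟨s, rfl⟩
        obtain ⟨t, ht1, ht2⟩ := hconj i s
        rw [hc, mul_inv_cancel_right] at ht1
        refine ⟨t * s⁻¹, hjk ?_, ?_⟩
        · rw [MonoidHom.mem_ker, map_mul, map_inv, ← ht1, mul_inv_cancel]
        · show _ = (t : W ≃ₗ[F] W) * ((s⁻¹ : SpecialLinearGroup F W) : W ≃ₗ[F] W)
          rw [ht2]
          rfl
      apply central_triv
      · have h5 := sl_perfect (F := F) (W := W) h3
        rw [commutator_def] at h5
        rw [MonoidHom.range_eq_map, ← Subgroup.map_commutator, h5]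
      · intro m hm
        obtain ⟨z, -, hz⟩ := hval m hm
        rw [hz]
        exact ⟨z, rfl⟩
      · rintro m hm _ ⟨s, rfl⟩
        obtain ⟨z, hzc, hz⟩ := hval m hm
        rw [hz]
        have h6 := Subgroup.mem_center_iff.1 hzc s
        exact (congrArg (fun g : SpecialLinearGroup F W => (g : W ≃ₗ[F] W)) h6).symm
    obtain ⟨α, hα⟩ := scal_of_comm_sl (by omega) (A i) (fun s => hcomm _ ⟨s, rfl⟩)
    have hα' : ∀ v ∈ W, (M i).1 v = α • v := by
      intro v hv
      rw [← hA i ⟨v, hv⟩, hα]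
      rfl
    obtain ⟨σ, c, hM⟩ := (M i).2
    have hσ : ∀ a, σ a = a := by
      intro a
      obtain ⟨v, hv⟩ := exists_ne (0 : W)
      have h1 := hlin i a v
      rw [hM.smul] at h1
      have h2 : (M i).1 v ≠ 0 := by
        intro h0
        apply hv
        apply Subtype.ext
        apply (M i).1.injective
        rw [h0, Submodule.coe_zero, hM.map_zero]
      exact smul_left_injective F h2 h1
    have hα0 : α ≠ 0 := by
      rintro rfl
      obtain ⟨v, hv⟩ := exists_ne (0 : W)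
      apply hv
      apply Subtype.ext
      apply (M i).1.injective
      rw [hα' v v.2, Submodule.coe_zero, hM.map_zero, zero_smul]
    refine ⟨α, α⁻¹ * c, hα', fun w' hw' => ?_⟩
    rw [← sub_eq_zero]
    apply h.zero_of (W'.sub_mem (hi' i w' hw') (W'.smul_mem _ hw'))
    intro v hv
    have h1 := hM.polar w' v
    rw [hσ, hα' v hv, polar_smul_right, smul_eq_mul] at h1
    rw [polar_sub_left, polar_smul_left, smul_eq_mul, sub_eq_zero]
    rw [mul_assoc, ← h1, inv_mul_cancel_left₀ hα0]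
  -- the totally singular plane
  obtain ⟨u, hu⟩ := exists_ne (0 : W)
  obtain ⟨w, hw, huw⟩ : ∃ w : W', w ≠ 0 ∧ polar Q (u : V) w = 0 := by
    let g : W' →ₗ[F] F := (polarBilin Q (u : V)) ∘ₗ W'.subtype
    have h1 : ∃ w : W', w ≠ 0 ∧ g w = 0 := by
      by_contra hno
      push Not at hno
      have h2 : Function.Injective g := by
        rw [injective_iff_map_eq_zero]
        intro a ha
        by_contra ha0
        exact hno a ha0 ha
      have h4 := LinearMap.finrank_le_finrank_of_injective h2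
      rw [Module.finrank_self] at h4
      omega
    exact h1
  have hu0 : Q (u : V) = 0 := hW u u.2
  have hw0 : Q (w : V) = 0 := hW' w w.2
  obtain ⟨s, hs⟩ := h.exists_sg hG h3 u.2 w.2 hu0 huw
  refine hLR {i : ι // ∀ a, x i * j a = j a * x i} (y := fun i => x i) (L := fun i => M i) (s := fun i => r i)
    (fun i => hl i) (fun i => hx.prime i) ?_ (fun i => hx.pow i) (fun i => hx.ne i) (fun i k => hx.comm i k)
    hu0 hw0 huw (fun h0 => hu (Subtype.ext h0)) ?_ ?_ ?_
  · rintro ⟨i, hic⟩ hrp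
    obtain ⟨α, β, hα, hβ⟩ := hJ i hic
    obtain ⟨a, ha, hsc⟩ := (hl i).pow_scal hG hρ (hx.pow i)
    have hp1 : ∀ n : ℕ, (∀ v ∈ W, ((M i) ^ n).1 v = α ^ n • v) ∧ (∀ v ∈ W', ((M i) ^ n).1 v = β ^ n • v) := by
      intro n
      induction n with
      | zero => exact ⟨fun v _ => by rw [pow_zero, pow_zero, one_smul]; rfl,
          fun v _ => by rw [pow_zero, pow_zero, one_smul]; rfl⟩
      | succ n ih =>
        constructor
        · intro v hv
          rw [pow_succ, pow_succ']
          show ((M i) ^ n).1 ((M i).1 v) = _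
          rw [hα v hv, ih.1 _ (W.smul_mem _ hv), smul_smul, mul_comm]
        · intro v hv
          rw [pow_succ, pow_succ']
          show ((M i) ^ n).1 ((M i).1 v) = _
          rw [hβ v hv, ih.2 _ (W'.smul_mem _ hv), smul_smul, mul_comm]
    have e1 : α ^ r i = a := by
      have h1 := (hp1 (r i)).1 u u.2
      rw [hsc] at h1
      exact (smul_left_injective F (fun h0 => hu (Subtype.ext h0)) h1).symm
    have e2 : β ^ r i = a := by
      have h1 := (hp1 (r i)).2 w w.2
      rw [hsc] at h1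
      exact (smul_left_injective F (fun h0 => hw (Subtype.ext h0)) h1).symm
    have hrp' : r i = p := hrp
    have hpp : Fact p.Prime := ⟨by rw [← hrp']; exact hx.prime i⟩
    have e3 : (α - β) ^ p = 0 := by
      rw [sub_pow_char, ← hrp', e1, e2, sub_self]
    have e4 : α = β := sub_eq_zero.1 (pow_eq_zero_iff hpp.out.ne_zero |>.1 e3)
    apply hx.ne i
    rw [(hl i).eq_one_iff hG hE hρ]
    refine ⟨α, ?_, ?_⟩
    · rintro rfl
      rw [zero_pow (hx.prime i).ne_zero] at e1
      exact ha e1.symm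
    · intro v
      obtain ⟨v1, v2, rfl⟩ := h.decomp v
      rw [add_of_mem (M i).2, hα v1 v1.2, hβ v2 v2.2, ← e4, smul_add]
  · intro a haw
    apply hw
    apply Subtype.ext
    have h1 : (w : V) ∈ W := by rw [haw]; exact W.smul_mem _ u.2
    exact Submodule.disjoint_def.1 hWW.disjoint _ h1 w.2
  · rintro ⟨i, hic⟩ v hv
    obtain ⟨α, β, hα, hβ⟩ := hJ i hic
    obtain ⟨a, b, rfl⟩ := Submodule.mem_span_pair.1 hv
    show (M i).1 _ ∈ _
    rw [add_of_mem (M i).2, hα _ (W.smul_mem _ u.2), hβ _ (W'.smul_mem _ w.2)]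
    exact Submodule.add_mem _
      (Submodule.smul_mem _ _ (Submodule.smul_mem _ _ (Submodule.subset_span (by simp))))
      (Submodule.smul_mem _ _ (Submodule.smul_mem _ _ (Submodule.subset_span (by simp))))
  · intro ω
    rcases hrule ω with h1 | ⟨i, hi1, hi2⟩
    · left
      rw [← hs, ← hj]
      exact h1 s
    · exact Or.inr ⟨⟨i, hi1⟩, hi2⟩

/-- **BOX B**: `V = W + W'`, both totally singular, all lifts preserve `W` and `W'`. -/
theorem box_B (hG : Good Q) (hE : Env G Ω N) (hρ : Rep Q N ρ) (hIH : IH (Nat.card (P Q)))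
    {p : ℕ} [CharP F p] {ι : Type} [Finite ι] {x : ι → G} {M : ι → Gam Q} {r : ι → ℕ}
    (hl : ∀ i, Lf ρ (x i) (M i)) (hlin : ∀ i, IsLin (M i)) (hx : PF x r) (hcov : Cov Ω x)
    (h8 : 8 ≤ Module.finrank F V) (h82 : ¬ (Nat.card F = 2 ∧ Module.finrank F V = 8))
    (W W' : Submodule F V) (hWW : IsCompl W W') (hW : ∀ v ∈ W, Q v = 0) (hW' : ∀ v ∈ W', Q v = 0)
    (hi : ∀ i, ∀ v ∈ W, (M i).1 v ∈ W) (hi' : ∀ i, ∀ v ∈ W', (M i).1 v ∈ W') : False :=
  box_B_of (p := p) hG hE hρ hIH (lr_of hG hE hρ) hl hlin hx hcov h8 h82 W W' hWW hW hW' hi hi'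

end main

end Cfsg.Agent.H520.RC
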