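import Cfsg.Agent.H520.RC.BoxGPm
import Cfsg.Agent.H864.RC.Def3
import Cfsg.Agent.H14.PD.Parity

/-!
# S3510, triality type iii: box G (helper520)

`box_G` : commuting semisimple elements `g i` of `Ω₈⁺(q)` of different prime orders, centralised by no element of
order `p`: two invariant dual totally singular planes (`G1`), elements of all prime orders dividing
`q² ± q + 1` or `q² + 1` (`G2`), or four orthogonal anisotropic planes (`G3`); `box_G_rot` : the `g i` are
rotations of the four planes.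
-/

set_option autoImplicit false
set_option linter.unusedSectionVars false
open Cfsg

namespace Cfsg.Agent.H520.RC

open Module QuadraticMap
open Cfsg.Agent.LieClassical.OrthCore Cfsg.Agent.LieClassical.OrthTrans
open Cfsg.Agent.LieClassical.QuadForms Cfsg.Agent.ClassicalGeometry.Triality

/-- a generator of a commuting family of elements of different prime orders -/
theorem exists_gen {G ι : Type*} [Group G] [Finite ι] {g : ι → G} {r : ι → ℕ} (hr : ∀ i, (r i).Prime)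
    (hinj : Function.Injective r) (hpow : ∀ i, g i ^ r i = 1) (hc : ∀ i j, g i * g j = g j * g i) {F : Type*}
    [Field F] (hF : ∀ i, (r i : F) ≠ 0) :
    ∃ s ∈ Subgroup.closure (Set.range g), (∀ i, ∃ k : ℕ, g i = s ^ k) ∧ ∃ n : ℕ, (n : F) ≠ 0 ∧ s ^ n = 1 := by
  classical
  have := Fintype.ofFinite ι
  have hcc : ∀ j, ∀ a ∈ Subgroup.closure (Set.range g), Commute a (g j) := by
    intro j a ha
    induction ha using Subgroup.closure_induction with
    | mem y hy => obtain ⟨i, rfl⟩ := hy; exact hc i j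
    | one => exact Commute.one_left _
    | mul a b _ _ ha hb => exact Commute.mul_left ha hb
    | inv a _ ha => exact Commute.inv_left ha
  have key : ∀ S : Finset ι, ∃ s ∈ Subgroup.closure (Set.range g), (∀ i ∈ S, ∃ k : ℕ, g i = s ^ k) ∧
      s ^ (∏ i ∈ S, r i) = 1 := by
    intro S
    induction S using Finset.induction_on with
    | empty => exact ⟨1, Subgroup.one_mem _, fun i hi => absurd hi (Finset.notMem_empty i), one_pow _⟩
    | insert j S hj ih =>
      obtain ⟨s, hs, h1, h2⟩ := ih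
      have hcom : Commute s (g j) := hcc j s hs
      have hcop : Nat.Coprime (r j) (∏ i ∈ S, r i) := by
        rw [Nat.coprime_prod_right_iff]
        intro i hi
        rw [Nat.coprime_primes (hr j) (hr i)]
        exact fun h => hj (hinj h ▸ hi)
      have hs1 : (s * g j) ^ r j = s ^ r j := by rw [hcom.mul_pow, hpow, mul_one]
      have hs2 : (s * g j) ^ (∏ i ∈ S, r i) = g j ^ (∏ i ∈ S, r i) := by rw [hcom.mul_pow, h2, one_mul]
      obtain ⟨m, hm⟩ := exists_pow_eq_self_of_coprime (x := s) (n := r j)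
        (hcop.coprime_dvd_right (orderOf_dvd_of_pow_eq_one h2))
      obtain ⟨m', hm'⟩ := exists_pow_eq_self_of_coprime (x := g j) (n := ∏ i ∈ S, r i)
        (hcop.symm.coprime_dvd_right (orderOf_dvd_of_pow_eq_one (hpow j)))
      refine ⟨s * g j, Subgroup.mul_mem _ hs (Subgroup.subset_closure ⟨j, rfl⟩), ?_, ?_⟩
      · intro i hi
        rcases Finset.mem_insert.1 hi with rfl | hi
        · exact ⟨(∏ i ∈ S, r i) * m', by rw [pow_mul, hs2, hm']⟩
        · obtain ⟨k, hk⟩ := h1 i hi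
          exact ⟨r j * m * k, by rw [pow_mul, pow_mul, hs1, hm, hk]⟩
      · rw [Finset.prod_insert hj, pow_mul, hs1, ← pow_mul, mul_comm, pow_mul, h2, one_pow]
  obtain ⟨s, hs, h1, h2⟩ := key Finset.univ
  refine ⟨s, hs, fun i => h1 i (Finset.mem_univ i), _, ?_, h2⟩
  rw [Nat.cast_prod]
  exact Finset.prod_ne_zero_iff.2 fun i _ => hF i

theorem sign_eight {F : Type*} [Field F] [Finite F] : Cfsg.Agent.H182.Sign.HasSign (⇑(plusForm 4 F)) 4 1 := by
  have h1 := Cfsg.Agent.H182.Sign.hasSign_plusForm (F := F) 4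
  rw [Cfsg.Agent.LieClassical.OrthForms.coe_plusForm] at h1
  rw [coe_plusForm]
  exact h1

/-- powers of a rotation are rotations -/
theorem rot_pow {F V : Type*} [Field F] [AddCommGroup V] [Module F V] {s : V ≃ₗ[F] V} {P : Submodule F V}
    (hP : ∀ v ∈ P, s v ∈ P) (hr : ∃ t : F, ∀ v ∈ P, s (s v) + v = t • s v) (k : ℕ) :
    ∃ t : F, ∀ v ∈ P, (s ^ k) ((s ^ k) v) + v = t • (s ^ k) v := by
  obtain ⟨t, ht⟩ := hr
  have hss : ∀ x, s (s⁻¹ x) = x := fun x => LinearEquiv.apply_symm_apply s x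
  have hss' : ∀ x, s⁻¹ (s x) = x := fun x => LinearEquiv.symm_apply_apply s x
  have hinv : ∀ v ∈ P, s⁻¹ v = t • v - s v := by
    intro v hv
    have h1 := congrArg (fun x => s⁻¹ x) (ht v hv)
    simp only [map_add, map_smul, hss'] at h1
    rw [← h1]
    abel
  have hP' : ∀ v ∈ P, s⁻¹ v ∈ P := fun v hv => by
    rw [hinv v hv]
    exact P.sub_mem (P.smul_mem _ hv) (hP v hv)
  have h1 : ∀ v ∈ P, s (s v) = t • s v - v := fun v hv => eq_sub_of_add_eq (ht v hv)
  have h2 : ∀ v ∈ P, s⁻¹ (s⁻¹ v) = t • s⁻¹ v - v := by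
    intro v hv
    have h3 := ht _ (hP' _ (hP' v hv))
    rw [hss, hss] at h3
    rw [← h3]
    abel
  have h0 : ∀ (c : V ≃ₗ[F] V), (∀ v ∈ P, c (c v) = t • c v - v) → ∀ k : ℕ, ∀ v ∈ P,
      (c ^ (k + 2)) v = t • (c ^ (k + 1)) v - (c ^ k) v := by
    intro c hc k v hv
    rw [pow_add, pow_add]
    show (c ^ k) ((c ^ 2) v) = t • (c ^ k) ((c ^ 1) v) - (c ^ k) v
    rw [pow_two, pow_one]
    show (c ^ k) (c (c v)) = _
    rw [hc v hv, map_sub, map_smul]
  have key : ∀ k : ℕ, ∃ a : F, ∀ v ∈ P, (s ^ k) v + (s⁻¹ ^ k) v = a • v := by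
    intro k
    induction k using Nat.twoStepInduction with
    | zero => exact ⟨2, fun v _ => by rw [pow_zero, pow_zero, two_smul]; rfl⟩
    | one => exact ⟨t, fun v hv => by rw [pow_one, pow_one, hinv v hv]; abel⟩
    | more k ih1 ih2 =>
      obtain ⟨a, ha⟩ := ih1
      obtain ⟨b, hb⟩ := ih2
      refine ⟨t * b - a, fun v hv => ?_⟩
      rw [h0 s h1 k v hv, h0 s⁻¹ h2 k v hv, sub_smul, mul_smul, ← ha v hv, ← hb v hv, smul_add]
      abel
  obtain ⟨a, ha⟩ := key k
  refine ⟨a, fun v hv => ?_⟩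
  rw [← map_smul, ← ha v hv, map_add]
  congr 1
  have h4 : s ^ k * s⁻¹ ^ k = 1 := by rw [inv_pow, mul_inv_cancel]
  exact (LinearEquiv.congr_fun h4 v).symm

open Cfsg.Agent.H864.RC in
/-- **box G** with rotations in the third alternative -/
theorem box_G_rot {F ι : Type} [Field F] [Finite F] [Finite ι] {p : ℕ} [CharP F p] (hG : Good (plusForm 4 F))
    {g : ι → (V8 F ≃ₗ[F] V8 F)} (hg : ∀ i, g i ∈ E (plusForm 4 F)) {r : ι → ℕ}
    (hr : ∀ i, (r i).Prime) (hinj : Function.Injective r) (hrp : ∀ i, r i ≠ p) (hpow : ∀ i, g i ^ r i = 1)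
    (hc : ∀ i j, g i * g j = g j * g i) (_h1 : ∀ i, g i ≠ 1)
    (hC : ∀ c ∈ E (plusForm 4 F), (∀ i, c * g i = g i * c) → c ^ p = 1 → c = 1) :
    (∃ L L', G1 g L L') ∨ G2 g ∨ ∃ P, G3 g P ∧ ∀ k i, ∃ t : F, ∀ v ∈ P k, g i (g i v) + v = t • g i v := by
  have hp : p.Prime := (CharP.char_is_prime_or_zero F p).resolve_right (CharP.char_ne_zero_of_finite F p)
  have hF : ∀ i, (r i : F) ≠ 0 := by
    intro i h0
    rw [CharP.cast_eq_zero_iff F p] at h0
    exact hrp i ((Nat.prime_dvd_prime_iff_eq hp (hr i)).1 h0).symm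
  obtain ⟨s, hs, hgs, n, hn, hsn⟩ := exists_gen hr hinj hpow hc hF
  have hsE : s ∈ E (plusForm 4 F) := by
    refine (Subgroup.closure_le _).2 ?_ hs
    rintro _ ⟨i, rfl⟩
    exact hg i
  have hV : finrank F (V8 F) = 8 := by
    rw [Module.finrank_fintype_fun_eq_card, Fintype.card_sum, Fintype.card_fin]
  have hS : Sn (plusForm 4 F) s n := ⟨hG.nondeg, E_le_O hsE, hsn, hn⟩
  -- commuting with all `g i` and commuting with `s`
  have hcs : ∀ c : V8 F ≃ₗ[F] V8 F, (∀ i, c * g i = g i * c) → c * s = s * c := by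
    intro c hcg
    have h2 : s ∈ Subgroup.centralizer {c} := by
      refine (Subgroup.closure_le _).2 ?_ hs
      rintro _ ⟨i, rfl⟩
      exact Subgroup.mem_centralizer_singleton_iff.2 (hcg i).symm
    exact (Subgroup.mem_centralizer_singleton_iff.1 h2).symm
  have hcg : ∀ c : V8 F ≃ₗ[F] V8 F, c * s = s * c → ∀ i, c * g i = g i * c := by
    intro c h2 i
    obtain ⟨k, hk⟩ := hgs i
    rw [hk]
    exact (Commute.pow_right (show Commute c s from h2) k)
  have hNp : Np (plusForm 4 F) s p := fun c hcE h2 h3 => hC c hcE (hcg c h2) h3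
  have hev : Even (finrank F (Ke s (1 : F))) := by
    have h2 := Cfsg.Agent.H14.PD.even_finrank_K hG (by simp) ⟨s, hsE⟩
    have h3 : Cfsg.Agent.H200.LinFix.K (Cfsg.Agent.H200.RowOrth.en (plusForm 4 F) ⟨s, hsE⟩) = Ke s (1 : F) := by
      ext v
      rw [Cfsg.Agent.H200.LinFix.mem_K, mem_Ke, one_smul]
      rfl
    rw [h3] at h2
    have h4 : Fintype.card (Fin 4 ⊕ Fin 4) = 8 := by simp
    rw [h4] at h2
    exact (Nat.even_add.1 h2).2 (by decide)
  have hginv : ∀ (W : Submodule F (V8 F)), (∀ v ∈ W, s v ∈ W) → ∀ i, ∀ v ∈ W, g i v ∈ W := by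
    intro W hW i v hv
    obtain ⟨k, hk⟩ := hgs i
    rw [hk]
    clear hk
    induction k with
    | zero => exact hv
    | succ k ih => rw [pow_succ']; exact hW _ ih
  have hodd : ∀ l : ℕ, l.Prime → l ≠ 2 → Odd l := fun l hl hl2 => hl.odd_of_ne_two hl2
  rcases alt_one hS hNp hV sign_eight hev with ⟨L, L', a1, a2, a3, a4, a5, a6, a7, a8⟩ | ⟨a, ha, h2⟩ |
    ⟨P, b1, b2, b3⟩
  · refine Or.inl ⟨L, L', ⟨a1, a2, a3, a4, a5, fun i => hginv L a6 i, fun i => hginv L' a7 i, ?_⟩⟩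
    intro c hcE hcg' l hl hl2 _ hcl v hv
    exact a8 c (E_le_O hcE) (hcs c hcg') l (hodd l hl hl2) hcl v hv
  · refine Or.inr (Or.inl ⟨a, ha, fun l hl hl2 _ hla => ?_⟩)
    obtain ⟨c, hcO, hcl, hc1, hcs'⟩ := h2 l hl hl2 hla
    exact ⟨c, Cfsg.Agent.H16.Og.mem_E_of_odd hG hcO (hodd l hl hl2) hcl, hcl, hc1, hcg c hcs'⟩
  · refine Or.inr (Or.inr ⟨P, ⟨fun k => (b2 k).two, b3, fun k => (b2 k).an,
      fun k i => hginv (P k) (fun v hv => (b1 k).s_mem hS.mem hv) i, ?_⟩, fun k i => ?_⟩)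
    swap
    · obtain ⟨m, hm⟩ := hgs i
      rw [hm]
      exact rot_pow (fun v hv => (b1 k).s_mem hS.mem hv) (b2 k).rot m
    intro c hcE hcg' _ _ _ _ _ _ j v hv
    exact (b1 j).can c (E_le_O hcE) (hcs c hcg') v hv

open Cfsg.Agent.H864.RC in
/-- **box G** -/
theorem box_G {F ι : Type} [Field F] [Finite F] [Finite ι] {p : ℕ} [CharP F p] (hG : Good (plusForm 4 F))
    {g : ι → (V8 F ≃ₗ[F] V8 F)} (hg : ∀ i, g i ∈ E (plusForm 4 F)) {r : ι → ℕ}
    (hr : ∀ i, (r i).Prime) (hinj : Function.Injective r) (hrp : ∀ i, r i ≠ p) (hpow : ∀ i, g i ^ r i = 1)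
    (hc : ∀ i j, g i * g j = g j * g i) (h1 : ∀ i, g i ≠ 1)
    (hC : ∀ c ∈ E (plusForm 4 F), (∀ i, c * g i = g i * c) → c ^ p = 1 → c = 1) :
    (∃ L L', G1 g L L') ∨ G2 g ∨ ∃ P, G3 g P := by
  rcases box_G_rot hG hg hr hinj hrp hpow hc h1 hC with h | h | ⟨P, h, -⟩
  · exact Or.inl h
  · exact Or.inr (Or.inl h)
  · exact Or.inr (Or.inr ⟨P, h⟩)

end Cfsg.Agent.H520.RC
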