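import Cfsg.Agent.H520.RC.BoxGOp

/-!
# S3510, triality type iii, box G: the blocks of one semisimple isometry (helper520)
-/

set_option autoImplicit false
set_option linter.unusedSectionVars false

namespace Cfsg.Agent.H520.RC

open Polynomial Module QuadraticMap
open Cfsg.Agent.LieClassical.OrthCore Cfsg.Agent.LieClassical.OrthTrans

variable {F V : Type*} [Field F] [AddCommGroup V] [Module F V] {Q : QuadraticForm F V} {s : V ≃ₗ[F] V} {n : ℕ}
  {R : Submodule F V}

/-! ### Elements of order `p` -/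

theorem siegel_pow {u w : V} (hu : Q u = 0) (hw : polar Q u w = 0) (m : ℕ) (h : polar Q u ((m : F) • w) = 0) :
    siegel Q u w hu hw ^ m = siegel Q u ((m : F) • w) hu h := by
  induction m with
  | zero =>
    apply LinearEquiv.ext
    intro v
    rw [siegel_apply]
    simp
  | succ m ih =>
    have h1 : polar Q u ((m : F) • w) = 0 := by rw [polar_smul_right, hw, smul_zero]
    rw [pow_succ, ih h1, siegel_mul hu h1 hw (by rw [polar_add_right, h1, hw, add_zero])]
    apply LinearEquiv.ext
    intro v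
    rw [siegel_apply, siegel_apply]
    have e : (m : F) • w + w = ((m + 1 : ℕ) : F) • w := by push_cast; module
    rw [e]

theorem siegel_pow_char {p : ℕ} [CharP F p] {u w : V} (hu : Q u = 0) (hw : polar Q u w = 0) :
    siegel Q u w hu hw ^ p = 1 := by
  rw [siegel_pow hu hw p (by rw [CharP.cast_eq_zero, zero_smul, polar_zero_right])]
  apply LinearEquiv.ext
  intro v
  rw [siegel_apply]
  simp

theorem siegel_ne_one (hQ : Nondeg Q) {u w : V} (hu : Q u = 0) (hw : polar Q u w = 0) (hu0 : u ≠ 0)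
    (hwu : ∀ a : F, w ≠ a • u) : siegel Q u w hu hw ≠ 1 := by
  intro h
  obtain ⟨y, hy⟩ := hQ.exists_polar_eq hu0 1
  have h1 := LinearEquiv.congr_fun h y
  rw [siegel_apply, hy] at h1
  have h2 : y + (1 : F) • w - polar Q w y • u - (Q w * 1) • u = y := h1
  apply hwu (polar Q w y + Q w)
  have h3 : w = (y + (1 : F) • w - polar Q w y • u - (Q w * 1) • u) - y + (polar Q w y + Q w) • u := by module
  rw [h2, sub_self, zero_add] at h3
  exact h3

/-- no element of order `p` commutes with `s` -/
def Np (Q : QuadraticForm F V) (s : V ≃ₗ[F] V) (p : ℕ) : Prop :=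
  ∀ c ∈ E Q, c * s = s * c → c ^ p = 1 → c = 1

theorem comm_of {c : V ≃ₗ[F] V} (h : ∀ v, c (s v) = s (c v)) : c * s = s * c := LinearEquiv.ext h

theorem polar_s' (h : s ∈ O Q) (v w : V) : polar Q v (s w) = polar Q (s⁻¹ v) w := by
  rw [polar_comm, polar_s h, polar_comm]

theorem no_siegel {p : ℕ} [CharP F p] (hp : Np Q s p) (hQ : Nondeg Q) {u w : V} (hu : Q u = 0)
    (hw : polar Q u w = 0) (hu0 : u ≠ 0) (hwu : ∀ a : F, w ≠ a • u)
    (hc : ∀ v, siegel Q u w hu hw (s v) = s (siegel Q u w hu hw v)) : False :=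
  siegel_ne_one hQ hu hw hu0 hwu (hp _ (siegel_mem_E hu hw) (comm_of hc) (siegel_pow_char hu hw))

/-- eigenvectors for `a`, `a⁻¹` -/
theorem no_eigen {p : ℕ} [CharP F p] (hp : Np Q s p) (hQ : Nondeg Q) (hs : s ∈ O Q) {u w : V} (hu : Q u = 0)
    (hw : polar Q u w = 0) (hu0 : u ≠ 0) (hwu : ∀ a : F, w ≠ a • u) {a : F} (ha : a ≠ 0) (h1 : s u = a • u)
    (h2 : s w = a⁻¹ • w) : False := by
  refine no_siegel hp hQ hu hw hu0 hwu fun v => ?_
  have e1 : polar Q u (s v) = a⁻¹ * polar Q u v := by
    have : polar Q (s u) (s v) = polar Q u v := polar_map hs u v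
    rw [h1, polar_smul_left, smul_eq_mul] at this
    rw [← this, inv_mul_cancel_left₀ ha]
  have e2 : polar Q w (s v) = a * polar Q w v := by
    have : polar Q (s w) (s v) = polar Q w v := polar_map hs w v
    rw [h2, polar_smul_left, smul_eq_mul] at this
    rw [← this, mul_inv_cancel_left₀ ha]
  rw [siegel_apply, siegel_apply, map_sub, map_sub, map_add, map_smul, map_smul, map_smul, e1, e2, h1, h2]
  have e3 : Q w = a⁻¹ * a⁻¹ * Q w := by
    have : Q (s w) = Q w := hs w
    rw [h2, QuadraticMap.map_smul, smul_eq_mul] at this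
    exact this.symm
  have e4 : (Q w * (a⁻¹ * polar Q u v)) • u = (Q w * polar Q u v) • a • u := by
    rw [smul_smul]
    congr 1
    conv_rhs => rw [e3]
    field_simp
  rw [e4]
  have e5 : (a⁻¹ * polar Q u v) • w = polar Q u v • a⁻¹ • w := by rw [smul_smul, mul_comm]
  have e6 : (a * polar Q w v) • u = polar Q w v • a • u := by rw [smul_smul, mul_comm]
  rw [e5, e6]

/-- `s` quadratic -/
theorem no_quad {p : ℕ} [CharP F p] (hp : Np Q s p) (hQ : Nondeg Q) (hs : s ∈ O Q) {u : V} (hu : Q u = 0)
    (hu0 : u ≠ 0) (hwu : ∀ a : F, s u ≠ a • u) {t : F} (h1 : s (s u) = t • s u - u) (hus : polar Q u (s u) = 0) :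
    False := by
  refine no_siegel hp hQ hu hus hu0 hwu fun v => ?_
  have e1 : polar Q (s u) (s v) = polar Q u v := polar_map hs u v
  have e2 : polar Q u (s v) = t * polar Q u v - polar Q (s u) v := by
    have h2 : polar Q (s (s u)) (s v) = polar Q (s u) v := polar_map hs _ _
    rw [h1, polar_sub_left, polar_smul_left, e1, smul_eq_mul] at h2
    rw [← h2]; ring
  have e3 : Q (s u) = 0 := by rw [hs u, hu]
  rw [siegel_apply, siegel_apply, map_sub, map_sub, map_add, map_smul, map_smul, map_smul, e1, e2, h1, e3]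
  module

/-- two totally singular planes `⟨u, s u⟩`, `⟨w, s w⟩`, orthogonal -/
theorem no_two {p : ℕ} [CharP F p] (hp : Np Q s p) (hQ : Nondeg Q) (hs : s ∈ O Q) {u w : V} (hu : Q u = 0)
    (hw : Q w = 0) (hw0 : w ≠ 0) (hus : polar Q u (s u) = 0) (hws : polar Q w (s w) = 0)
    (huw : polar Q u w = 0) (hsuw : polar Q (s u) w = 0) (husw : polar Q u (s w) = 0)
    (hind : ∀ a b : F, a • u + b • s u = 0 → a = 0 ∧ b = 0)
    (hdis : ∀ a b c d : F, a • u + b • s u = c • w + d • s w → a • u + b • s u = 0)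
    {b d : F} (h1 : s (s u) = b • s u - d • u) (h2 : d • s (s w) = b • s w - w) : False := by
  have e0 : Q (s u) = 0 := by rw [hs u, hu]
  have e0' : Q (s w) = 0 := by rw [hs w, hw]
  have k2 : polar Q u (-d • s w) = 0 := by rw [polar_smul_right, husw, smul_zero]
  have k3 : polar Q (s u) (s w) = 0 := by rw [polar_map hs, huw]
  set A := siegel Q (s u) w e0 hsuw with hA
  set B := siegel Q u (-d • s w) hu k2 with hB
  have hAa : ∀ v, A v = v + polar Q (s u) v • w - polar Q w v • s u := fun v => by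
    rw [hA, siegel_apply, hw, zero_mul, zero_smul, sub_zero]
  have hQ' : Q (-d • s w) = 0 := by rw [QuadraticMap.map_smul, e0', smul_zero]
  have hBa : ∀ v, B v = v - (d * polar Q u v) • s w + (d * polar Q (s w) v) • u := fun v => by
    rw [hB, siegel_apply, hQ', polar_smul_left]
    simp only [smul_eq_mul]
    module
  have q1 : polar Q (s u) u = 0 := by rw [polar_comm]; exact hus
  have q2 : polar Q w u = 0 := by rw [polar_comm]; exact huw
  have q3 : polar Q (s w) (s u) = 0 := by rw [polar_comm]; exact k3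
  have q4 : polar Q (s w) w = 0 := by rw [polar_comm]; exact hws
  have hAB : ∀ v, A (B v) = v - (d * polar Q u v) • s w + (d * polar Q (s w) v) • u + polar Q (s u) v • w -
      polar Q w v • s u := fun v => by
    rw [hAa, hBa]
    simp only [polar_add_right, polar_sub_right, polar_smul_right, k3, q1, hws, q2, smul_zero, sub_zero, add_zero]
  have hBA : ∀ v, B (A v) = v - (d * polar Q u v) • s w + (d * polar Q (s w) v) • u + polar Q (s u) v • w -
      polar Q w v • s u := fun v => by
    rw [hBa, hAa]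
    simp only [polar_add_right, polar_sub_right, polar_smul_right, huw, hus, q4, q3, smul_zero, sub_zero, add_zero]
    module
  have hcomm : Commute A B := LinearEquiv.ext fun v => (hAB v).trans (hBA v).symm
  have hABE : A * B ∈ E Q := mul_mem (siegel_mem_E _ _) (siegel_mem_E _ _)
  have hABp : (A * B) ^ p = 1 := by
    rw [hcomm.mul_pow, siegel_pow_char, siegel_pow_char, mul_one]
  have hABs : A * B * s = s * (A * B) := by
    apply comm_of
    intro v
    show A (B (s v)) = s (A (B v))
    have e1 : polar Q (s u) (s v) = polar Q u v := polar_map hs u v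
    have e2 : polar Q (s w) (s v) = polar Q w v := polar_map hs w v
    have e3 : d * polar Q u (s v) = b * polar Q u v - polar Q (s u) v := by
      have h3 : polar Q (s (s u)) (s v) = polar Q (s u) v := polar_map hs _ _
      rw [h1, polar_sub_left, polar_smul_left, polar_smul_left, e1, smul_eq_mul, smul_eq_mul] at h3
      rw [← h3]; ring
    have e4 : polar Q w (s v) = b * polar Q w v - d * polar Q (s w) v := by
      have h3 : polar Q (d • s (s w)) (s v) = d * polar Q (s w) v := by
        rw [polar_smul_left, polar_map hs, smul_eq_mul]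
      rw [h2, polar_sub_left, polar_smul_left, e2, smul_eq_mul] at h3
      rw [← h3]; ring
    rw [hAB, hAB, map_sub, map_add, map_add, map_sub, map_smul, map_smul, map_smul, map_smul, h1, e1, e2, e4]
    have e5 : (d * polar Q u v) • s (s w) = polar Q u v • (b • s w - w) := by
      rw [mul_comm, mul_smul, h2]
    rw [e5, e3]
    module
  have h3 := hp _ hABE hABs hABp
  apply hw0
  apply hQ
  intro v
  have h4 := LinearEquiv.congr_fun h3 v
  have h5 : v - (d * polar Q u v) • s w + (d * polar Q (s w) v) • u + polar Q (s u) v • w -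
      polar Q w v • s u = v := (hAB v).symm.trans h4
  have h6 : (d * polar Q (s w) v) • u + (-polar Q w v) • s u = (-polar Q (s u) v) • w + (d * polar Q u v) • s w := by
    have h7 : (d * polar Q (s w) v) • u + (-polar Q w v) • s u - ((-polar Q (s u) v) • w + (d * polar Q u v) • s w) =
      (v - (d * polar Q u v) • s w + (d * polar Q (s w) v) • u + polar Q (s u) v • w -
      polar Q w v • s u) - v := by module
    rw [h5, sub_self] at h7
    exact sub_eq_zero.1 h7
  have h8 := (hind _ _ (hdis _ _ _ _ h6)).2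
  exact neg_eq_zero.1 h8

/-! ### Kernels of irreducible polynomials -/

theorem ker_iff_of_N (h : Sn Q s n) {f : F[X]} (hN : f ∣ til n f) {v : V} : ev s f v = 0 ↔ ev s⁻¹ f v = 0 := by
  constructor
  · intro h1
    rw [← ev_til h]
    exact ev_dvd hN h1
  · intro h1
    have h2 := ev_til h.inv f v
    rw [inv_inv] at h2
    rw [← h2]
    exact ev_dvd hN h1

theorem eq_zero_of_S (h : Sn Q s n) {f : F[X]} (hf : Irreducible f) (hS : ¬ f ∣ til n f) {v : V}
    (h1 : ev s f v = 0) (h2 : ev s⁻¹ f v = 0) : v = 0 := by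
  by_contra hv0
  apply hS
  apply dvd_of_ev hf h1 hv0
  rw [ev_til h]
  exact h2

theorem not_dvd_of_S {f : F[X]} (hf : Irreducible f) (hS : ¬ f ∣ til n f) : ¬ f ∣ X - 1 := by
  intro h1
  apply hS
  have h2 : Irreducible (X - C 1 : F[X]) := irreducible_X_sub_C 1
  rw [C_1] at h2
  have h3 : Associated f (X - 1) := (hf.associated_of_dvd h2) h1
  have h4 : f.eval 1 = 0 := by
    have h5 : (X - C 1 : F[X]) ∣ f := by rw [C_1]; exact h3.symm.dvd
    exact (dvd_iff_isRoot.1 h5)
  refine h1.trans ?_
  rw [← C_1, dvd_iff_isRoot, IsRoot, til, eval_comp, eval_pow, eval_X, one_pow, h4]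

theorem ts_polar (h : Sn Q s n) {f : F[X]} (hf : Irreducible f) (hS : ¬ f ∣ til n f) {v w : V}
    (hv : ev s f v = 0) (hw : ev s f w = 0) : polar Q v w = 0 := by
  obtain ⟨a, b, hab⟩ := hf.coprime_iff_not_dvd.2 hS
  have h1 : w = ev s⁻¹ f (ev s b w) := by
    conv_lhs => rw [← ev_one s w, ← hab, ev_add, ev_mul, hw, map_zero, zero_add, ev_mul', ev_til h]
  rw [h1, ← adj h.mem, hv, polar_zero_left]

theorem exists_sub (hR : ∀ v ∈ R, s v ∈ R) {f : F[X]} (hf : Irreducible f) (h1 : ¬ f ∣ X - 1) {v : V} (hvR : v ∈ R)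
    (hv : ev s f v = 0) : ∃ u ∈ R, ev s f u = 0 ∧ v = s u - u := by
  obtain ⟨a, b, hab⟩ := hf.coprime_iff_not_dvd.2 h1
  refine ⟨ev s b v, ev_inv_mem hR _ hvR, by rw [← ev_mul, mul_comm, ev_mul, hv, map_zero], ?_⟩
  conv_lhs => rw [← ev_one s v, ← hab, ev_add, ev_mul, hv, map_zero, zero_add, ev_mul', ev_sub, ev_X, ev_one]

theorem Q_sub (hs : s ∈ O Q) (u : V) : Q (s u - u) = polar Q u u - polar Q (s u) u := by
  rw [sub_eq_add_neg, Q_add, QuadraticMap.map_neg, polar_neg_right, hs u, polar_self']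
  ring

theorem Q_of_polar (hs : s ∈ O Q) {C : V →ₗ[F] V} (hC : ∀ v, C (s v) = s (C v)) {u : V}
    (h1 : polar Q (C (s u)) (C u) = polar Q (s u) u) (h2 : polar Q (C u) (C u) = polar Q u u) :
    Q (C (s u - u)) = Q (s u - u) := by
  rw [map_sub, hC, Q_sub hs, Q_sub hs, h2, ← hC, h1]

theorem ts_Q (h : Sn Q s n) {f : F[X]} (hf : Irreducible f) (hS : ¬ f ∣ til n f) {v : V}
    (hv : ev s f v = 0) : Q v = 0 := by
  obtain ⟨u, -, hu, rfl⟩ := exists_sub (R := ⊤) (fun _ _ => trivial) hf (not_dvd_of_S hf hS) trivial hv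
  have hsu : ev s f (s u) = 0 := by
    have := ev_comm s (s : V →ₗ[F] V) (fun _ => rfl) f u
    have h2 : s (ev s f u) = ev s f (s u) := this
    rw [← h2, hu, map_zero]
  rw [Q_sub h.mem, ts_polar h hf hS hu hu, ts_polar h hf hS hsu hu, sub_zero]

/-- the degree is bounded by the dimension -/
theorem natDegree_le [FiniteDimensional F V] (hR : ∀ v ∈ R, s v ∈ R) {f : F[X]} (hf : Irreducible f) {v : V}
    (hv : v ∈ R) (hfv : ev s f v = 0) (hv0 : v ≠ 0) {K : Submodule F V} (hK : ∀ w ∈ R, ev s f w = 0 → w ∈ K) :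
    f.natDegree ≤ finrank F K := by
  let φ : degreeLT F f.natDegree →ₗ[F] K :=
    { toFun := fun g => ⟨ev s (g : F[X]) v, hK _ (ev_inv_mem hR _ hv) (by
        rw [← ev_mul, mul_comm, ev_mul, hfv, map_zero])⟩
      map_add' := fun a b => Subtype.ext (ev_add s _ _ v)
      map_smul' := fun a b => Subtype.ext (by
        show ev s (a • (b : F[X])) v = a • ev s (b : F[X]) v
        rw [smul_eq_C_mul, ev_mul, ev_C]) }
  have h1 : Function.Injective φ := by
    rw [← LinearMap.ker_eq_bot, LinearMap.ker_eq_bot']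
    intro g hg
    have h2 : ev s (g : F[X]) v = 0 := congrArg Subtype.val hg
    have h3 := dvd_of_ev hf hfv hv0 h2
    apply Subtype.ext
    by_contra hg0
    have h4 := mem_degreeLT.1 g.2
    have h5 := degree_le_of_dvd h3 hg0
    have h6 : f.degree = f.natDegree := degree_eq_natDegree hf.ne_zero
    rw [h6] at h5
    exact absurd h4 (not_lt.2 h5)
  have h2 := LinearMap.finrank_le_finrank_of_injective h1
  rwa [(degreeLTEquiv F f.natDegree).finrank_eq, Module.finrank_fintype_fun_eq_card, Fintype.card_fin] at h2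

theorem indep {f : F[X]} (hf : Irreducible f) (hd : 2 ≤ f.natDegree) {u : V} (hu : ev s f u = 0) (hu0 : u ≠ 0)
    {a b : F} (h : a • u + b • s u = 0) : a = 0 ∧ b = 0 := by
  have h1 : ev s (C b * X + C a) u = 0 := by
    rw [ev_add, ev_mul, ev_X, ev_C, ev_C, add_comm]
    exact h
  have h2 := dvd_of_ev hf hu hu0 h1
  have h3 : (C b * X + C a : F[X]) = 0 := by
    by_contra hne
    have h4 := natDegree_le_of_dvd h2 hne
    have h5 : (C b * X + C a : F[X]).natDegree ≤ 1 := natDegree_linear_le
    omega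
  constructor
  · have := congrArg (fun g => coeff g 0) h3
    simpa using this
  · have := congrArg (fun g => coeff g 1) h3
    simpa using this

theorem quad_rel {f : F[X]} (hm : f.Monic) (hd : f.natDegree = 2) {u : V} (hu : ev s f u = 0) :
    s (s u) = (-f.coeff 1) • s u - f.coeff 0 • u := by
  have h1 : f = X * X + C (f.coeff 1) * X + C (f.coeff 0) := by
    have h2 := eq_quadratic_of_degree_le_two (p := f) (by
      rw [degree_eq_natDegree hm.ne_zero, hd]; rfl)
    have h3 : f.coeff 2 = 1 := by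
      have := hm.coeff_natDegree
      rwa [hd] at this
    rw [h3, C_1, one_mul, pow_two] at h2
    exact h2
  rw [h1, ev_add, ev_add, ev_mul, ev_mul, ev_X, ev_X, ev_C, ev_C] at hu
  have h3 : s (s u) = (s (s u) + f.coeff 1 • s u + f.coeff 0 • u) - f.coeff 1 • s u - f.coeff 0 • u := by module
  rw [h3, hu]
  module

theorem lin_rel {f : F[X]} (hm : f.Monic) (hd : f.natDegree = 1) {u : V} (hu : ev s f u = 0) :
    s u = (-f.coeff 0) • u := by
  have h1 := hm.eq_X_add_C hd
  rw [h1, ev_add, ev_X, ev_C] at hu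
  rw [neg_smul]
  exact eq_neg_of_add_eq_zero_left hu

end Cfsg.Agent.H520.RC
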