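import Cfsg.Agent.H520.RC.BoxGRow

/-!
# S3510, triality type iii, box G: the decomposition (helper520)
-/

set_option autoImplicit false
set_option linter.unusedSectionVars false
set_option linter.unusedSimpArgs false

namespace Cfsg.Agent.H520.RC

open Polynomial Module QuadraticMap
open Cfsg.Agent.LieClassical.OrthCore Cfsg.Agent.LieClassical.OrthTrans
open Cfsg.Agent.H182.Sign (HasSign)

variable {F V : Type*} [Field F] [Finite F] [AddCommGroup V] [Module F V] [FiniteDimensional F V] [Finite V]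
  {Q : QuadraticForm F V} {s : V ≃ₗ[F] V} {n p : ℕ} {R B : Submodule F V}

/-! ### Signs -/

theorem sign_PA (h : PA Q s B) : HasSign (fun v : B => Q v) 1 (-1) := by
  have h1 := Cfsg.Agent.H182.Sign.isMinus_of_aniso (F := F) (V := B) (Q.comp B.subtype) h.two (fun x hx h0 =>
    hx (Subtype.ext (h.an x x.2 h0)))
  obtain ⟨a, b, hab, e, he⟩ := h1
  exact (Cfsg.Agent.H182.Sign.hasSign_minusForm 0 hab).congr e.toEquiv fun v => he v

theorem span_equiv {u u' : V} (hu : Q u = 0) (hu' : Q u' = 0) (hne : polar Q u u' ≠ 0) :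
    ∃ e : (F × F) ≃ Submodule.span F {u, u'}, ∀ p : F × F, Q (e p : V) = p.1 * p.2 := by
  let β := polar Q u u'
  have hmem : ∀ a b : F, a • u + b • u' ∈ Submodule.span F {u, u'} := fun a b =>
    Submodule.mem_span_pair.2 ⟨a, b, rfl⟩
  refine ⟨Equiv.ofBijective (fun p => ⟨p.1 • u + (p.2 / β) • u', hmem _ _⟩) ⟨?_, ?_⟩, ?_⟩
  · rintro ⟨a, b⟩ ⟨c, d⟩ hab
    have h1 : a • u + (b / β) • u' = c • u + (d / β) • u' := congrArg Subtype.val hab
    have h2 := congrArg (fun v => polar Q v u') h1
    have h3 := congrArg (fun v => polar Q u v) h1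
    simp only [polar_add_left, polar_smul_left, polar_self_of_sing hu', mul_zero, smul_zero, add_zero, smul_eq_mul, add_zero, zero_add] at h2
    simp only [polar_add_right, polar_smul_right, polar_self_of_sing hu, mul_zero, smul_zero, zero_add, smul_eq_mul, add_zero, zero_add] at h3
    have h4 : a = c := mul_right_cancel₀ hne h2
    have h5 : b / β = d / β := mul_right_cancel₀ hne h3
    have h6 : b = d := by
      have h7 : b / β * β = d / β * β := by rw [h5]
      rwa [div_mul_cancel₀ _ hne, div_mul_cancel₀ _ hne] at h7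
    rw [h4, h6]
  · rintro ⟨v, hv⟩
    obtain ⟨a, b, rfl⟩ := Submodule.mem_span_pair.1 hv
    refine ⟨(a, b * β), Subtype.ext ?_⟩
    show a • u + (b * β / β) • u' = _
    rw [mul_div_cancel_right₀ _ hne]
  · rintro ⟨a, b⟩
    show Q (a • u + (b / β) • u') = a * b
    rw [Q_add, QuadraticMap.map_smul, QuadraticMap.map_smul, hu, hu', polar_smul_left, polar_smul_right]
    show _ + a * (b / β * β) = _
    rw [div_mul_cancel₀ _ hne]
    simp

theorem sign_PH {u u' : V} (h : PH Q s u u') : HasSign (fun v : Submodule.span F {u, u'} => Q v) 1 1 := by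
  obtain ⟨e, he⟩ := span_equiv h.sing h.sing' h.ne
  exact Cfsg.Agent.H182.Sign.hasSign_mul.congr e he

theorem finrank_PH {u u' : V} (h : PH Q s u u') : finrank F (Submodule.span F {u, u'}) = 2 := by
  have hli : LinearIndependent F ![u, u'] := by
    rw [LinearIndependent.pair_iff]
    intro a b hab
    have h2 := congrArg (fun v => polar Q v u') hab
    have h3 := congrArg (fun v => polar Q u v) hab
    simp only [polar_add_left, polar_smul_left, polar_self_of_sing h.sing', mul_zero, smul_zero, add_zero, smul_eq_mul,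
      polar_zero_left, add_zero, zero_add] at h2
    simp only [polar_add_right, polar_smul_right, polar_self_of_sing h.sing, mul_zero, smul_zero, zero_add, smul_eq_mul,
      polar_zero_right, add_zero, zero_add] at h3
    exact ⟨(mul_eq_zero.1 h2).resolve_right h.ne, (mul_eq_zero.1 h3).resolve_right h.ne⟩
  have := finrank_span_eq_card hli
  rw [Matrix.range_cons, Matrix.range_cons, Matrix.range_empty, Set.union_empty, Set.singleton_union,
    Fintype.card_fin] at this
  exact this

theorem sign_sum (hB : ∀ v ∈ B, (∀ w ∈ B, polar Q v w = 0) → v = 0) (hBR : B ≤ R) {a b : ℕ} {ε ε' : ℤ}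
    (h1 : HasSign (fun v : B => Q v) a ε) (h2 : HasSign (fun v : (pp Q B ⊓ R : Submodule F V) => Q v) b ε') :
    HasSign (fun v : R => Q v) (a + b) (ε * ε') := by
  let e : B × (pp Q B ⊓ R : Submodule F V) → R := fun x => ⟨x.1 + x.2, R.add_mem (hBR x.1.2) x.2.2.2⟩
  have he : Function.Bijective e := by
    constructor
    · rintro ⟨x, y⟩ ⟨x', y'⟩ hxy
      have h3 : (x : V) + y = x' + y' := congrArg Subtype.val hxy
      have h4 : (x : V) - x' = y' - y := by
        rw [sub_eq_sub_iff_add_eq_add, h3, add_comm]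
      have h5 : (x : V) - x' = 0 := by
        apply hB _ (B.sub_mem x.2 x'.2)
        intro w hw
        rw [h4, polar_comm]
        exact (pp Q B).sub_mem y'.2.1 y.2.1 w hw
      rw [h5] at h4
      exact Prod.ext (Subtype.ext (sub_eq_zero.1 h5)) (Subtype.ext (sub_eq_zero.1 h4.symm).symm)
    · rintro ⟨v, hv⟩
      obtain ⟨b, hb, hb'⟩ := exists_proj hB v
      exact ⟨(⟨b, hb⟩, ⟨v - b, hb', R.sub_mem hv (hBR hb)⟩), Subtype.ext (add_sub_cancel b v)⟩
  refine (h1.prod h2).congr (Equiv.ofBijective e he) fun x => ?_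
  show Q ((x.1 : V) + x.2) = _
  rw [Q_add, x.2.2.1 x.1 x.1.2, add_zero]

theorem finrank_sum (hB : ∀ v ∈ B, (∀ w ∈ B, polar Q v w = 0) → v = 0) (hBR : B ≤ R) :
    finrank F R = finrank F B + finrank F (pp Q B ⊓ R : Submodule F V) := by
  have h1 : B ⊔ (pp Q B ⊓ R) = R := by
    apply le_antisymm (sup_le hBR inf_le_right)
    intro v hv
    obtain ⟨b, hb, hb'⟩ := exists_proj hB v
    rw [← add_sub_cancel b v]
    exact Submodule.add_mem_sup hb ⟨hb', R.sub_mem hv (hBR hb)⟩
  have h2 : B ⊓ (pp Q B ⊓ R) = ⊥ := by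
    rw [eq_bot_iff]
    rintro v ⟨hv, hv', -⟩
    exact hB v hv fun w hw => by rw [polar_comm]; exact hv' w hw
  have h3 := Submodule.finrank_sup_add_finrank_inf_eq B (pp Q B ⊓ R)
  rw [h1, h2, finrank_bot, add_zero] at h3
  exact h3

theorem Rn.perp (hB : Rn Q s B) (hR : Rn Q s R) (hBR : B ≤ R) : Rn Q s (pp Q B ⊓ R) := by
  constructor
  · intro v hv hvv
    apply hR.nd v hv.2
    intro y hy
    obtain ⟨b, hb, hb'⟩ := exists_proj hB.nd y
    rw [← add_sub_cancel b y, polar_add_right, hvv _ ⟨hb', R.sub_mem hy (hBR hb)⟩, add_zero, polar_comm]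
    exact hv.1 b hb
  · intro c hc hcs v hv
    exact ⟨pp_inv hc (hB.can c hc hcs) v hv.1, hR.can c hc hcs v hv.2⟩

/-! ### Outcomes -/

/-- orthogonal sum of anisotropic planes -/
def OutA (Q : QuadraticForm F V) (s : V ≃ₗ[F] V) (R : Submodule F V) (k : ℕ) : Prop :=
  (∃ P : Fin k → Submodule F V, (∀ i, P i ≤ R) ∧ (∀ i, Rn Q s (P i)) ∧ (∀ i, PA Q s (P i)) ∧
    ∀ i j, i ≠ j → ∀ v ∈ P i, ∀ w ∈ P j, polar Q v w = 0) ∧ HasSign (fun v : R => Q v) k ((-1) ^ k)

/-- exactly one hyperbolic plane -/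
def OutB (Q : QuadraticForm F V) (s : V ≃ₗ[F] V) (R : Submodule F V) (k : ℕ) : Prop :=
  (∃ u ∈ R, ∃ u' ∈ R, PH Q s u u') ∧ HasSign (fun v : R => Q v) k (-(-1) ^ k)

/-- the outcome -/
def Out (Q : QuadraticForm F V) (s : V ≃ₗ[F] V) (R : Submodule F V) : Prop :=
  ∃ k, finrank F R = 2 * k ∧ (OutA Q s R k ∨ OutB Q s R k)

theorem add_PA (hB : Rn Q s B) (hP : PA Q s B) (hBR : B ≤ R) (h : Out Q s (pp Q B ⊓ R)) : Out Q s R := by
  obtain ⟨k, hk, h⟩ := h
  refine ⟨k + 1, by rw [finrank_sum hB.nd hBR, hP.two, hk]; ring, ?_⟩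
  rcases h with ⟨⟨P, hP1, hP2, hP3, hP4⟩, hs⟩ | ⟨⟨u, hu, u', hu', hPH⟩, hs⟩
  · left
    refine ⟨⟨Fin.cons B P, ?_, ?_, ?_, ?_⟩, ?_⟩
    · intro i
      refine Fin.cases ?_ (fun i => ?_) i
      · exact hBR
      · exact (hP1 i).trans inf_le_right
    · intro i
      refine Fin.cases ?_ (fun i => ?_) i
      · exact hB
      · exact hP2 i
    · intro i
      refine Fin.cases ?_ (fun i => ?_) i
      · exact hP
      · exact hP3 i
    · intro i j
      refine Fin.cases ?_ (fun i => ?_) i
      · refine Fin.cases ?_ (fun j => ?_) j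
        · intro h; exact absurd rfl h
        · intro _ v hv w hw
          exact (hP1 j hw).1 v hv
      · refine Fin.cases ?_ (fun j => ?_) j
        · intro _ v hv w hw
          rw [polar_comm]
          exact (hP1 i hv).1 w hw
        · intro hij v hv w hw
          exact hP4 i j (fun h => hij (by rw [h])) v hv w hw
    · have h1 := sign_sum hB.nd hBR (sign_PA hP) hs
      rw [add_comm 1 k] at h1
      rw [pow_succ, mul_comm]
      exact h1
  · right
    refine ⟨⟨u, hu.2, u', hu'.2, hPH⟩, ?_⟩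
    have h1 := sign_sum hB.nd hBR (sign_PA hP) hs
    rw [add_comm 1 k] at h1
    have e : (-(-1) ^ (k + 1) : ℤ) = -1 * -(-1) ^ k := by rw [pow_succ]; ring
    rw [e]
    exact h1

theorem two_PH {u u' v v' : V} (h : PH Q s u u') (h' : PH Q s v v') (huv : polar Q u v = 0)
    (huv' : polar Q u v' = 0) (hu'v : polar Q u' v = 0) (hu'v' : polar Q u' v' = 0) : G1' Q s := by
  have huv2 : polar Q v u = 0 := by rw [polar_comm]; exact huv
  have hv'u : polar Q v' u = 0 := by rw [polar_comm]; exact huv'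
  have hvu' : polar Q v u' = 0 := by rw [polar_comm]; exact hu'v
  have hv'u' : polar Q v' u' = 0 := by rw [polar_comm]; exact hu'v'
  have hli : ∀ a b : F, a • u + b • v = 0 → a = 0 ∧ b = 0 := by
    intro a b hab
    have h2 := congrArg (fun x => polar Q x u') hab
    have h3 := congrArg (fun x => polar Q x v') hab
    simp only [polar_add_left, polar_smul_left, hvu', mul_zero, smul_zero, add_zero, smul_eq_mul, polar_zero_left, mul_zero, add_zero, zero_add] at h2
    simp only [polar_add_left, polar_smul_left, huv', mul_zero, smul_zero, zero_add, smul_eq_mul, polar_zero_left, mul_zero, add_zero, zero_add] at h3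
    exact ⟨(mul_eq_zero.1 h2).resolve_right h.ne, (mul_eq_zero.1 h3).resolve_right h'.ne⟩
  have hli' : ∀ a b : F, a • u' + b • v' = 0 → a = 0 ∧ b = 0 := by
    intro a b hab
    have h2 := congrArg (fun x => polar Q u x) hab
    have h3 := congrArg (fun x => polar Q v x) hab
    simp only [polar_add_right, polar_smul_right, huv', mul_zero, smul_zero, add_zero, smul_eq_mul, polar_zero_right,
      mul_zero, add_zero, zero_add] at h2
    simp only [polar_add_right, polar_smul_right, hvu', mul_zero, smul_zero, zero_add, smul_eq_mul, polar_zero_right,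
      mul_zero, add_zero, zero_add] at h3
    exact ⟨(mul_eq_zero.1 h2).resolve_right h.ne, (mul_eq_zero.1 h3).resolve_right h'.ne⟩
  have fr : ∀ x y : V, (∀ a b : F, a • x + b • y = 0 → a = 0 ∧ b = 0) → finrank F (Submodule.span F {x, y}) = 2 := by
    intro x y hxy
    have := finrank_span_eq_card (LinearIndependent.pair_iff.2 hxy)
    rw [Matrix.range_cons, Matrix.range_cons, Matrix.range_empty, Set.union_empty, Set.singleton_union,
      Fintype.card_fin] at this
    exact this
  have sub1 : ∀ x y : V, x ∈ Submodule.span F {x, y} := fun x y => Submodule.subset_span (Set.mem_insert _ _)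
  have sub2 : ∀ x y : V, y ∈ Submodule.span F {x, y} := fun x y => Submodule.subset_span (Set.mem_insert_of_mem _ rfl)
  have inv : ∀ (c : V ≃ₗ[F] V) (x y : V), (∃ a : F, c x = a • x) → (∃ a : F, c y = a • y) →
      ∀ z ∈ Submodule.span F {x, y}, c z ∈ Submodule.span F {x, y} := by
    rintro c x y ⟨a, ha⟩ ⟨b, hb⟩ z hz
    obtain ⟨α, β, rfl⟩ := Submodule.mem_span_pair.1 hz
    rw [map_add, map_smul, map_smul, ha, hb]
    exact Submodule.add_mem _ (Submodule.smul_mem _ _ (Submodule.smul_mem _ _ (sub1 x y)))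
      (Submodule.smul_mem _ _ (Submodule.smul_mem _ _ (sub2 x y)))
  refine ⟨Submodule.span F {u, v}, Submodule.span F {u', v'}, fr _ _ hli, fr _ _ hli', ?_, ?_, ?_, ?_, ?_, ?_⟩
  · intro z hz
    obtain ⟨a, b, rfl⟩ := Submodule.mem_span_pair.1 hz
    rw [Q_add, QuadraticMap.map_smul, QuadraticMap.map_smul, h.sing, h'.sing, polar_smul_left, polar_smul_right, huv]
    simp
  · intro z hz
    obtain ⟨a, b, rfl⟩ := Submodule.mem_span_pair.1 hz
    rw [Q_add, QuadraticMap.map_smul, QuadraticMap.map_smul, h.sing', h'.sing', polar_smul_left, polar_smul_right,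
      hu'v']
    simp
  · intro z hz hzz
    obtain ⟨a, b, rfl⟩ := Submodule.mem_span_pair.1 hz
    have h2 := hzz u' (sub1 _ _)
    have h3 := hzz v' (sub2 _ _)
    simp only [polar_add_left, polar_smul_left, hvu', mul_zero, smul_zero, add_zero, smul_eq_mul, add_zero, zero_add] at h2
    simp only [polar_add_left, polar_smul_left, huv', mul_zero, smul_zero, zero_add, smul_eq_mul, add_zero, zero_add] at h3
    rw [(mul_eq_zero.1 h2).resolve_right h.ne, (mul_eq_zero.1 h3).resolve_right h'.ne, zero_smul, zero_smul, add_zero]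
  · exact inv s u v h.eig h'.eig
  · exact inv s u' v' h.eig' h'.eig'
  · intro c hc hcs m hm hcm
    exact inv c u v (h.pres c hc hcs m hm hcm).1 (h'.pres c hc hcs m hm hcm).1

theorem add_PH {u u' : V} (hu : u ∈ R) (hu' : u' ∈ R) (hB : Rn Q s (Submodule.span F {u, u'})) (hP : PH Q s u u')
    (h : Out Q s (pp Q (Submodule.span F {u, u'}) ⊓ R)) : G1' Q s ∨ Out Q s R := by
  have hBR : Submodule.span F {u, u'} ≤ R := by
    rw [Submodule.span_le]
    rintro x (rfl | rfl)
    · exact hu
    · exact hu'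
  obtain ⟨k, hk, h⟩ := h
  have hk' : finrank F R = 2 * (k + 1) := by rw [finrank_sum hB.nd hBR, finrank_PH hP, hk]; ring
  rcases h with ⟨-, hs⟩ | ⟨⟨v, hv, v', hv', hPH⟩, hs⟩
  · right
    refine ⟨k + 1, hk', Or.inr ⟨⟨u, hu, u', hu', hP⟩, ?_⟩⟩
    have h1 := sign_sum hB.nd hBR (sign_PH hP) hs
    rw [add_comm 1 k] at h1
    have e : (-(-1) ^ (k + 1) : ℤ) = 1 * (-1) ^ k := by rw [pow_succ]; ring
    rw [e]
    exact h1
  · left
    have s1 : u ∈ Submodule.span F {u, u'} := Submodule.subset_span (Set.mem_insert _ _)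
    have s2 : u' ∈ Submodule.span F {u, u'} := Submodule.subset_span (Set.mem_insert_of_mem _ rfl)
    exact two_PH hP hPH (hv.1 _ s1) (hv'.1 _ s1) (hv.1 _ s2) (hv'.1 _ s2)

/-- the part without eigenvalues `1`, `-1` -/
theorem rec [CharP F p] (h : Sn Q s n) (hp : Np Q s p) (hV : finrank F V = 8) (hsg : HasSign (⇑Q) 4 1) :
    ∀ m : ℕ, ∀ R : Submodule F V, finrank F R = m → Rn Q s R → (∀ v ∈ R, s v = v → v = 0) →
      (∀ v ∈ R, s v = -v → v = 0) → G1' Q s ∨ G2' Q s ∨ Out Q s R := by
  intro m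
  induction m using Nat.strong_induction_on with
  | _ m ih =>
    intro R hm hR h1 h1'
    by_cases hR0 : R = ⊥
    · subst hR0
      refine Or.inr (Or.inr ⟨0, by rw [finrank_bot], Or.inl ⟨⟨fun i => i.elim0, fun i => i.elim0, fun i => i.elim0,
        fun i => i.elim0, fun i => i.elim0⟩, ?_⟩⟩)
      rw [pow_zero]
      exact Cfsg.Agent.H182.Sign.hasSign_zero _ fun v => by
        rw [(Submodule.mem_bot F).1 v.2, QuadraticMap.map_zero]
    · rcases block h hR hp h1 h1' hV hsg hR0 with h2 | h2 | ⟨B, hBR, hB, hP⟩ | ⟨u, hu, u', hu', hP, hB⟩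
      · exact Or.inl h2
      · exact Or.inr (Or.inl h2)
      · have h3 := finrank_sum hB.nd hBR
        rcases ih _ (by rw [hP.two] at h3; omega) (pp Q B ⊓ R) rfl (hB.perp hR hBR) (fun v hv => h1 v hv.2)
          (fun v hv => h1' v hv.2) with h4 | h4 | h4
        · exact Or.inl h4
        · exact Or.inr (Or.inl h4)
        · exact Or.inr (Or.inr (add_PA hB hP hBR h4))
      · have hBR : Submodule.span F {u, u'} ≤ R := by
          rw [Submodule.span_le]
          rintro x (rfl | rfl)
          · exact hu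
          · exact hu'
        have h3 := finrank_sum hB.nd hBR
        rcases ih _ (by rw [finrank_PH hP] at h3; omega) (pp Q (Submodule.span F {u, u'}) ⊓ R) rfl
          (hB.perp hR hBR) (fun v hv => h1 v hv.2) (fun v hv => h1' v hv.2) with h4 | h4 | h4
        · exact Or.inl h4
        · exact Or.inr (Or.inl h4)
        · rcases add_PH hu hu' hB hP h4 with h5 | h5
          · exact Or.inl h5
          · exact Or.inr (Or.inr h5)

end Cfsg.Agent.H520.RC
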