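import Cfsg.Agent.H520.RC.BoxGTwo
import Cfsg.Agent.H182.Classify
import Cfsg.Agent.H150.SignCount

/-!
# S3510, triality type iii, box G: the alternatives for one semisimple isometry (helper520)
-/

set_option autoImplicit false
set_option linter.unusedSectionVars false

namespace Cfsg.Agent.H520.RC

open Polynomial Module QuadraticMap
open Cfsg.Agent.LieClassical.OrthCore Cfsg.Agent.LieClassical.OrthTrans

variable {F V : Type*} [Field F] [Finite F] [AddCommGroup V] [Module F V] [FiniteDimensional F V]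
  {Q : QuadraticForm F V} {s : V ≃ₗ[F] V} {n p : ℕ} {R : Submodule F V}

/-- two dual planes -/
def G1' (Q : QuadraticForm F V) (s : V ≃ₗ[F] V) : Prop :=
  ∃ L L' : Submodule F V, finrank F L = 2 ∧ finrank F L' = 2 ∧ (∀ v ∈ L, Q v = 0) ∧ (∀ v ∈ L', Q v = 0) ∧
    (∀ v ∈ L, (∀ w ∈ L', polar Q v w = 0) → v = 0) ∧ (∀ v ∈ L, s v ∈ L) ∧ (∀ v ∈ L', s v ∈ L') ∧
    ∀ c ∈ O Q, c * s = s * c → ∀ m : ℕ, Odd m → c ^ m = 1 → ∀ v ∈ L, c v ∈ L

/-- elements of prime order -/
def G2' (Q : QuadraticForm F V) (s : V ≃ₗ[F] V) : Prop :=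
  ∃ a : ℕ, (a = Nat.card F ^ 2 + Nat.card F + 1 ∨ a = Nat.card F ^ 2 - Nat.card F + 1 ∨ a = Nat.card F ^ 2 + 1) ∧
    ∀ l : ℕ, l.Prime → l ≠ 2 → l ∣ a → ∃ c ∈ O Q, c ^ l = 1 ∧ c ≠ 1 ∧ c * s = s * c

/-- an anisotropic plane -/
structure PA (Q : QuadraticForm F V) (s : V ≃ₗ[F] V) (B : Submodule F V) : Prop where
  two : finrank F B = 2
  an : ∀ v ∈ B, Q v = 0 → v = 0
  rot : ∃ t : F, ∀ v ∈ B, s (s v) + v = t • s v

/-- a hyperbolic pair of invariant lines -/
structure PH (Q : QuadraticForm F V) (s : V ≃ₗ[F] V) (u u' : V) : Prop where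
  sing : Q u = 0
  sing' : Q u' = 0
  ne : polar Q u u' ≠ 0
  eig : ∃ a : F, s u = a • u
  eig' : ∃ a : F, s u' = a • u'
  pres : ∀ c ∈ O Q, c * s = s * c → ∀ m : ℕ, Odd m → c ^ m = 1 → (∃ a : F, c u = a • u) ∧ ∃ a : F, c u' = a • u'

theorem comm_ev {c : V ≃ₗ[F] V} (hc : c * s = s * c) (f : F[X]) (v : V) : c (ev s f v) = ev s f (c v) :=
  ev_comm s (c : V →ₗ[F] V) (fun v => LinearEquiv.congr_fun hc v) f v

theorem comm_inv {c : V ≃ₗ[F] V} (hc : c * s = s * c) : c * s⁻¹ = s⁻¹ * c := by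
  have h2 : s⁻¹ * (c * s) * s⁻¹ = s⁻¹ * (s * c) * s⁻¹ := by rw [hc]
  simpa [mul_assoc] using h2.symm

theorem Np.inv (h : Np Q s p) : Np Q s⁻¹ p := fun c hc h1 h2 => h c hc (by
  have := comm_inv h1
  rwa [inv_inv] at this) h2

theorem Rn.comm (hR : Rn Q s R) {f : F[X]} {c : V ≃ₗ[F] V} (hc : c ∈ O Q) (h : c * s = s * c) {v : V} (hv : v ∈ R)
    (hf : ev s f v = 0) : c v ∈ R ∧ ev s f (c v) = 0 :=
  ⟨hR.can c hc h v hv, by rw [← comm_ev h, hf, map_zero]⟩

/-- the kernel of `f (s)` in `R` -/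
noncomputable def kr (s : V ≃ₗ[F] V) (f : F[X]) (R : Submodule F V) : Submodule F V := LinearMap.ker (ev s f) ⊓ R

theorem mem_kr {f : F[X]} {v : V} : v ∈ kr s f R ↔ ev s f v = 0 ∧ v ∈ R := by
  rw [kr, Submodule.mem_inf, LinearMap.mem_ker]

/-- a nonzero vector in the kernel of few functionals -/
theorem exists_perp {K : Submodule F V} {m : ℕ} (y : Fin m → V) (h : m < finrank F K) :
    ∃ w ∈ K, w ≠ 0 ∧ ∀ i, polar Q (y i) w = 0 := by
  let φ : K →ₗ[F] (Fin m → F) := LinearMap.pi fun i => (polarBilin Q (y i)).comp K.subtype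
  have h1 : ¬ Function.Injective φ := by
    intro h2
    have h3 := LinearMap.finrank_le_finrank_of_injective h2
    rw [Module.finrank_fintype_fun_eq_card, Fintype.card_fin] at h3
    omega
  rw [← LinearMap.ker_eq_bot, Submodule.eq_bot_iff] at h1
  push Not at h1
  obtain ⟨w, hw, hw0⟩ := h1
  refine ⟨w, w.2, fun h2 => hw0 (Subtype.ext h2), fun i => ?_⟩
  exact congrFun (LinearMap.mem_ker.1 hw) i

/-- split, degree one -/
theorem S_one [CharP F p] (h : Sn Q s n) (hp : Np Q s p) {f : F[X]} (hm : f.Monic)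
    (hf : Irreducible f) (hS : ¬ f ∣ til n f) (hd : f.natDegree = 1) {u : V}
    (hu : ev s⁻¹ f u = 0) (hu0 : u ≠ 0) : finrank F (kr s f R) ≤ 1 := by
  by_contra hlt
  obtain ⟨w, hw, hw0, hwu⟩ := exists_perp (Q := Q) (K := kr s f R) (m := 1) (fun _ => u) (by omega)
  rw [mem_kr] at hw
  have e1 := lin_rel hm hd hw.1
  have e2 := lin_rel hm hd hu
  set a : F := -f.coeff 0 with ha
  have ha0 : a ≠ 0 := by
    intro h0
    rw [h0, zero_smul] at e1
    exact hw0 (by simpa using e1)
  have e3 : s u = a⁻¹ • u := by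
    have h3 : s (s⁻¹ u) = u := LinearEquiv.apply_symm_apply s u
    rw [e2, map_smul] at h3
    calc s u = a⁻¹ • (a • s u) := (inv_smul_smul₀ ha0 _).symm
      _ = a⁻¹ • u := by rw [h3]
  refine no_eigen hp h.nd h.mem (ts_Q h hf hS hw.1) (w := u) ?_ hw0 ?_ ha0 e1 e3
  · rw [polar_comm]; exact hwu 0
  · intro b hb
    apply hu0
    apply eq_zero_of_S h hf hS _ hu
    rw [hb, map_smul, hw.1, smul_zero]

/-- split, degree two -/
theorem S_two [CharP F p] (h : Sn Q s n) (hp : Np Q s p) {f : F[X]} (hm : f.Monic)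
    (hf : Irreducible f) (hS : ¬ f ∣ til n f) (hd : f.natDegree = 2) {w : V}
    (hw : ev s⁻¹ f w = 0) (hw0 : w ≠ 0) : finrank F (kr s f R) ≤ 2 := by
  by_contra hlt
  obtain ⟨u, hu, hu0, huw⟩ := exists_perp (Q := Q) (K := kr s f R) (m := 2) ![w, s w] (by omega)
  rw [mem_kr] at hu
  have e1 := quad_rel hm hd hu.1
  have e2 := quad_rel hm hd hw
  have hss : ∀ x, s (s⁻¹ x) = x := fun x => LinearEquiv.apply_symm_apply s x
  have e3 : f.coeff 0 • s (s w) = (-f.coeff 1) • s w - w := by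
    have h3 := congrArg (fun x => s (s x)) e2
    simp only [map_sub, map_smul, hss] at h3
    exact eq_sub_of_add_eq (by rw [add_comm]; exact add_eq_of_eq_sub h3)
  have k1 : polar Q u w = 0 := by rw [polar_comm]; exact huw 0
  have k2 : polar Q u (s w) = 0 := by rw [polar_comm]; exact huw 1
  have k3 : polar Q (s u) w = 0 := by
    have h3 : w = (-f.coeff 1) • s w - f.coeff 0 • s (s w) := by rw [e3]; abel
    rw [h3, polar_sub_right, polar_smul_right, polar_smul_right, polar_map h.mem, polar_map h.mem, k1, k2]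
    simp
  have hsu : ev s f (s u) = 0 := by
    have := ev_comm s (s : V →ₗ[F] V) (fun _ => rfl) f u
    have h2 : s (ev s f u) = ev s f (s u) := this
    rw [← h2, hu.1, map_zero]
  have hsw : ev s⁻¹ f (s w) = 0 := by
    have := ev_comm s⁻¹ (s : V →ₗ[F] V) (fun y => by
      show s (s⁻¹ y) = s⁻¹ (s y)
      rw [hss]; exact (LinearEquiv.symm_apply_apply s y).symm) f w
    have h2 : s (ev s⁻¹ f w) = ev s⁻¹ f (s w) := this
    rw [← h2, hw, map_zero]
  refine no_two hp h.nd h.mem (ts_Q h hf hS hu.1) (ts_Q h.inv hf hS hw) hw0 (ts_polar h hf hS hu.1 hsu)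
    (ts_polar h.inv hf hS hw hsw) k1 k3 k2 (fun a b hab => indep hf (by omega) hu.1 hu0 hab) ?_ e1 e3
  intro a b c d hab
  apply eq_zero_of_S h hf hS
  · rw [map_add, map_smul, map_smul, hu.1, hsu, smul_zero, smul_zero, add_zero]
  · rw [hab, map_add, map_smul, map_smul, hw, hsw, smul_zero, smul_zero, add_zero]

/-- self-dual, degree two -/
theorem N_two [CharP F p] (h : Sn Q s n) (hR : Rn Q s R) (hp : Np Q s p) (h1 : ∀ v ∈ R, s v = v → v = 0)
    (h1' : ∀ v ∈ R, s v = -v → v = 0) {f : F[X]} (hm : f.Monic) (hf : Irreducible f) (hN : f ∣ til n f)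
    (hd : f.natDegree = 2) {u : V} (huR : u ∈ R) (hu : ev s f u = 0) (hu0 : u ≠ 0) :
    Rn Q s (kr s f R) ∧ PA Q s (kr s f R) := by
  have hsR : ∀ v ∈ R, s v ∈ R := fun v hv => hR.s_mem h.mem hv
  have hss : ∀ x, s (s⁻¹ x) = x := fun x => LinearEquiv.apply_symm_apply s x
  -- the coefficient
  have hc0 : f.coeff 0 = 1 := by
    by_contra hne
    have e1 := quad_rel hm hd hu
    have e2 := quad_rel hm hd ((ker_iff_of_N h hN).1 hu)
    have e3 : f.coeff 0 • s (s u) = (-f.coeff 1) • s u - u := by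
      have h3 := congrArg (fun x => s (s x)) e2
      simp only [map_sub, map_smul, hss] at h3
      exact eq_sub_of_add_eq (by rw [add_comm]; exact add_eq_of_eq_sub h3)
    rw [e1] at e3
    have e4 : (1 - f.coeff 0 * f.coeff 0) • u + (f.coeff 1 - f.coeff 0 * f.coeff 1) • s u = 0 := by
      have h4 : (1 - f.coeff 0 * f.coeff 0) • u + (f.coeff 1 - f.coeff 0 * f.coeff 1) • s u =
        f.coeff 0 • ((-f.coeff 1) • s u - f.coeff 0 • u) - ((-f.coeff 1) • s u - u) := by module
      rw [h4, e3, sub_self]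
    obtain ⟨k1, k2⟩ := indep hf (by omega) hu hu0 e4
    have k3 : f.coeff 1 = 0 := by
      have : (1 - f.coeff 0) * f.coeff 1 = 0 := by rw [← k2]; ring
      exact (mul_eq_zero.1 this).resolve_left (sub_ne_zero.2 (Ne.symm hne))
    have k4 : f.coeff 0 = -1 := by
      have : (1 - f.coeff 0) * (1 + f.coeff 0) = 0 := by rw [← k1]; ring
      have := (mul_eq_zero.1 this).resolve_left (sub_ne_zero.2 (Ne.symm hne))
      exact eq_neg_of_add_eq_zero_right this
    have k5 : s (s u) = u := by rw [e1, k3, k4]; simp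
    have k6 : s u + u = 0 := h1 _ (R.add_mem (hsR u huR) huR) (by rw [map_add, k5, add_comm])
    exact hu0 (h1' u huR (eq_neg_of_add_eq_zero_left k6))
  have hrel : ∀ v, ev s f v = 0 → s (s v) = (-f.coeff 1) • s v - v := by
    intro v hv
    have := quad_rel hm hd hv
    rwa [hc0, one_smul] at this
  set t : F := -f.coeff 1 with ht
  -- singular vectors
  have hsing : ∀ v ∈ kr s f R, Q v = 0 → polar Q v (s v) = 0 := by
    intro v hv hQ
    rw [mem_kr] at hv
    have e1 := hrel v hv.1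
    have e2 : polar Q (s (s v)) v = t * polar Q (s v) v := by
      rw [e1, polar_sub_left, polar_smul_left, polar_self_of_sing hQ, sub_zero, smul_eq_mul]
    by_cases ht0 : t = 0
    · rw [ht0, zero_smul, zero_sub] at e1
      have e3 : polar Q (s (s v)) (s v) = polar Q (s v) v := polar_map h.mem _ _
      rw [e1, polar_neg_left, polar_comm Q (s v) v] at e3
      have e4 : (2 : F) * polar Q v (s v) = 0 := by linear_combination (-1 : F) * e3
      rcases mul_eq_zero.1 e4 with h2 | h2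
      · exfalso
        have hv0 : v ≠ 0 ∨ v = 0 := (em (v = 0)).symm
        have e5 : -v = v := by
          have : v + v = (2 : F) • v := by rw [two_smul]
          rw [h2, zero_smul] at this
          exact neg_eq_of_add_eq_zero_left this
        have hu1 : s (s u) = u := by
          have := hrel u hu
          rw [ht0, zero_smul, zero_sub] at this
          rw [this]
          have : u + u = (2 : F) • u := by rw [two_smul]
          rw [h2, zero_smul] at this
          exact neg_eq_of_add_eq_zero_left this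
        have k6 : s u + u = 0 := h1 _ (R.add_mem (hsR u huR) huR) (by rw [map_add, hu1, add_comm])
        exact hu0 (h1' u huR (eq_neg_of_add_eq_zero_left k6))
      · exact h2
    · have e3 : t • v = s v + s⁻¹ v := by
        have h3 := congrArg (fun x => s⁻¹ x) e1
        have hss' : ∀ x, s⁻¹ (s x) = x := fun x => LinearEquiv.symm_apply_apply s x
        simp only [map_sub, map_smul, hss'] at h3
        rw [h3]
        module
      have e4 : t * t * Q v = Q (s v) + Q (s⁻¹ v) + polar Q (s v) (s⁻¹ v) := by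
        rw [← Q_add, ← e3, QuadraticMap.map_smul, smul_eq_mul]
      have e5 : polar Q (s v) (s⁻¹ v) = polar Q (s (s v)) v := (polar_s h.mem (s v) v).symm
      rw [hQ, h.mem v, (inv_mem h.mem : s⁻¹ ∈ O Q) v, hQ, e5, e2, mul_zero, zero_add, zero_add] at e4
      rw [polar_comm]
      exact (mul_eq_zero.1 e4.symm).resolve_left ht0
  have hnotsp : ∀ v ∈ kr s f R, v ≠ 0 → ∀ a : F, s v ≠ a • v := by
    intro v hv hv0 a ha
    have := (indep (a := a) (b := -1) hf (by omega) (mem_kr.1 hv).1 hv0 (by rw [ha]; module)).2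
    exact one_ne_zero (neg_eq_zero.1 this)
  have h3 : finrank F (kr s f R) ≤ 2 := by
    by_contra hlt
    obtain ⟨w, hw, hw0, hQw⟩ := Cfsg.Agent.LieClassical.OrthFinite.exists_sing_mem (Q := Q) (kr s f R) (by omega)
    exact no_quad hp h.nd h.mem hQw hw0 (hnotsp w hw hw0) (hrel w (mem_kr.1 hw).1) (hsing w hw hQw)
  have h4 : finrank F (kr s f R) = 2 := by
    apply le_antisymm h3
    rw [← hd]
    exact natDegree_le hsR hf huR hu hu0 fun w hw hw' => mem_kr.2 ⟨hw', hw⟩
  have hRn : Rn Q s (kr s f R) := by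
    constructor
    · intro v hv hvv
      by_contra hv0
      rw [mem_kr] at hv
      obtain ⟨w, hw, hw1, hw2⟩ := pair h hR f hv.2 hv.1 hv0
      exact hw2 (hvv w (mem_kr.2 ⟨(ker_iff_of_N h hN).2 hw1, hw⟩))
    · intro c hc hcs v hv
      rw [mem_kr] at hv
      have := hR.comm hc hcs hv.2 hv.1
      exact mem_kr.2 ⟨this.2, this.1⟩
  refine ⟨hRn, h4, fun v hv hQ => ?_, t, fun v hv => by rw [hrel v (mem_kr.1 hv).1, sub_add_cancel]⟩
  by_contra hv0
  apply hv0
  apply hRn.nd v hv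
  have hsv : s v ∈ kr s f R := hRn.s_mem h.mem hv
  have hspan : Submodule.span F {v, s v} = kr s f R := by
    apply Submodule.eq_of_le_of_finrank_eq
    · rw [Submodule.span_le]
      rintro x (rfl | rfl)
      · exact hv
      · exact hsv
    · rw [h4]
      have hli : LinearIndependent F ![v, s v] := by
        rw [LinearIndependent.pair_iff]
        intro a b hab
        exact indep hf (by omega) (mem_kr.1 hv).1 hv0 hab
      have := finrank_span_eq_card hli
      rw [Matrix.range_cons, Matrix.range_cons, Matrix.range_empty, Set.union_empty, Set.singleton_union,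
        Fintype.card_fin] at this
      exact this
  intro w hw
  rw [← hspan, Submodule.mem_span_pair] at hw
  obtain ⟨a, b, rfl⟩ := hw
  rw [polar_add_right, polar_smul_right, polar_smul_right, polar_self_of_sing hQ, hsing v hv hQ]
  simp

/-! ### No element without fixed points of order dividing `q ^ 4 + 1` -/

theorem no_eight [Finite V] (hV : finrank F V = 8) (hsg : Cfsg.Agent.H182.Sign.HasSign (⇑Q) 4 1) {c : V ≃ₗ[F] V} (hc : c ∈ O Q)
    {l : ℕ} (hl : l.Prime) (hl2 : l ≠ 2) (hd : l ∣ Nat.card F ^ 4 + 1) (hcl : c ^ l = 1)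
    (hfix : ∀ w, c w = w → w = 0) : False := by
  classical
  have hfl : Fact l.Prime := ⟨hl⟩
  have := Fintype.ofFinite {v : V // Q v = 1}
  let f : Function.End {v : V // Q v = 1} := fun v => ⟨c v, by rw [hc v, v.2]⟩
  have hf : ∀ (m : ℕ) (v : {v : V // Q v = 1}), ((f ^ m) v : V) = (c ^ m) (v : V) := by
    intro m
    induction m with
    | zero => intro v; rfl
    | succ m ih =>
      intro v
      rw [pow_succ, pow_succ]
      show ((f ^ m) (f v) : V) = (c ^ m) (c v)
      rw [ih]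
  have h1 : f ^ l ^ 1 = 1 := by
    funext v
    apply Subtype.ext
    rw [hf, pow_one, hcl]
    rfl
  have h2 := Equiv.Perm.card_fixedPoints_modEq (p := l) (n := 1) h1
  have h3 : Fintype.card (Function.fixedPoints f) = 0 := by
    rw [Fintype.card_eq_zero_iff]
    constructor
    rintro ⟨v, hv⟩
    have h4 : c (v : V) = v := congrArg Subtype.val hv
    have h5 := hfix _ h4
    have h6 := v.2
    rw [h5, QuadraticMap.map_zero] at h6
    exact zero_ne_one h6
  rw [h3] at h2
  have h4 : l ∣ Nat.card {v : V // Q v = 1} := by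
    rw [Nat.card_eq_fintype_card]
    exact (Nat.modEq_zero_iff_dvd).1 h2
  have h5 := Cfsg.Agent.H150.card_of_hasSign (F := F) (Q := ⇑Q) (n := 4) (ε := 1) hsg (by
    rw [Module.natCard_eq_pow_finrank (K := F), hV]) (c := 1) one_ne_zero
  have h6 : (l : ℤ) ∣ (Nat.card F : ℤ) ^ (2 * 4) - 1 * (Nat.card F : ℤ) ^ 4 := by
    rw [← h5]
    exact (Int.natCast_dvd_natCast.2 h4).mul_left _
  have h7 : (l : ℤ) ∣ (Nat.card F : ℤ) ^ 4 + 1 := by exact_mod_cast hd
  have h8 : (l : ℤ) ∣ 2 := by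
    have e : (2 : ℤ) = ((Nat.card F : ℤ) ^ (2 * 4) - 1 * (Nat.card F : ℤ) ^ 4) -
      ((Nat.card F : ℤ) ^ 4 + 1) * ((Nat.card F : ℤ) ^ 4 - 2) := by ring
    rw [e]
    exact dvd_sub h6 (h7.mul_right _)
  have h9 : l ∣ 2 := by exact_mod_cast h8
  exact hl2 ((Nat.prime_dvd_prime_iff_eq hl Nat.prime_two).1 h9)

/-- an odd prime divisor of `x ^ 2 + 1` -/
theorem exists_odd_prime {x : ℕ} (hx : 1 < x) : ∃ l : ℕ, l.Prime ∧ l ≠ 2 ∧ l ∣ x ^ 2 + 1 := by
  by_contra hcon
  push Not at hcon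
  have h1 := Nat.eq_prime_pow_of_unique_prime_dvd (n := x ^ 2 + 1) (p := 2) (by omega) (fun {d} hd hdn => by
    by_contra h2
    exact hcon d hd h2 hdn)
  set k := (x ^ 2 + 1).primeFactorsList.length
  have h2 : 4 < x ^ 2 + 1 := by nlinarith
  have h3 : 2 ≤ k := by
    by_contra hlt
    have : k ≤ 1 := by omega
    have := Nat.pow_le_pow_right (n := 2) (by norm_num) this
    omega
  have h4 : 4 ∣ x ^ 2 + 1 := by
    rw [h1, show (4 : ℕ) = 2 ^ 2 by norm_num]
    exact pow_dvd_pow 2 h3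
  have h5 : x ^ 2 % 4 = 0 ∨ x ^ 2 % 4 = 1 := by
    have : x % 4 = 0 ∨ x % 4 = 1 ∨ x % 4 = 2 ∨ x % 4 = 3 := by omega
    rcases this with h | h | h | h <;> simp [Nat.pow_mod, h]
  omega

end Cfsg.Agent.H520.RC
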