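import Cfsg.Agent.H106.RC.Use
import Cfsg.Agent.H727.GW.Isom

/-!
# S3510, row D (symplectic groups): the common setting (helper520)

* `NAlt B` : `B` is alternating and nondegenerate;  `Sp B` : the isometry group (subgroup of `V ≃ₗ[F] V`).
* `SS B` : the group of semisimilitudes `M` : `M : V ≃+ V`, `M.σ : F ≃+* F`, `M.l : F`,
  `M (a • v) = M.σ a • M v`, `B (M u) (M v) = M.l * M.σ (B u v)`.
* `cj M : MulAut (Sp B)` : conjugation, `cj M t (M v) = M (t v)`;  `tg t : SS B` for `t : Sp B`.
* `tv h e c : Sp B` : `x ↦ x + (c * B x e) • e`;  `cj_tv`.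
* `SpEnv Ω N ρ` : the environment, `ρ : Sp B →* G` onto `N`, kernel the scalars;
  `Lf ρ x M` : `M` is a lift of `x`.
-/

set_option autoImplicit false
open Cfsg

namespace Cfsg.Agent.H520.RC

open MulAction Module Cfsg.Agent.H106.RC Cfsg.Agent.H727.GW

universe u v

section defs

variable {F : Type u} {V : Type v} [Field F] [AddCommGroup V] [Module F V]

/-- alternating and nondegenerate -/
structure NAlt (B : LinearMap.BilinForm F V) : Prop where
  alt : ∀ x, B x x = 0
  nd : ∀ x, (∀ y, B x y = 0) → x = 0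

/-- the symplectic group -/
abbrev Sp (B : LinearMap.BilinForm F V) : Subgroup (V ≃ₗ[F] V) := isomGroup B

/-- semisimilitudes -/
@[ext]
structure SS (B : LinearMap.BilinForm F V) where
  /-- the map -/
  f : V ≃+ V
  /-- the field automorphism -/
  σ : F ≃+* F
  /-- the multiplier -/
  l : F
  hl : l ≠ 0
  smul' : ∀ (a : F) (v : V), f (a • v) = σ a • f v
  form' : ∀ u v : V, B (f u) (f v) = l * σ (B u v)

variable {B : LinearMap.BilinForm F V}

theorem NAlt.swap (h : NAlt B) (x y : V) : B x y = - B y x := by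
  have h1 := h.alt (x + y)
  simp only [map_add, LinearMap.add_apply, h.alt, zero_add, add_zero] at h1
  linear_combination h1

theorem NAlt.swap0 (h : NAlt B) {x y : V} (hxy : B x y = 0) : B y x = 0 := by
  rw [h.swap, hxy, neg_zero]

theorem NAlt.nd' (h : NAlt B) (x : V) (hx : ∀ y, B y x = 0) : x = 0 :=
  h.nd x fun y => h.swap0 (hx y)

theorem NAlt.exists_ne (h : NAlt B) {x : V} (hx : x ≠ 0) : ∃ y, B x y ≠ 0 := by
  by_contra hno
  push Not at hno
  exact hx (h.nd x hno)

/-- hyperbolic partner -/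
theorem NAlt.exists_one (h : NAlt B) {x : V} (hx : x ≠ 0) : ∃ y, B x y = 1 := by
  obtain ⟨y, hy⟩ := h.exists_ne hx
  exact ⟨(B x y)⁻¹ • y, by rw [map_smul, smul_eq_mul, inv_mul_cancel₀ hy]⟩

namespace SS

instance : CoeFun (SS B) fun _ => V → V := ⟨fun M => M.f⟩

theorem ext' {M L : SS B} (h : ∀ v, M v = L v) (hσ : M.σ = L.σ) (hl : M.l = L.l) : M = L :=
  SS.ext (AddEquiv.ext h) hσ hl

theorem map_smul (M : SS B) (a : F) (v : V) : M (a • v) = M.σ a • M v := M.smul' a v

theorem form (M : SS B) (u v : V) : B (M u) (M v) = M.l * M.σ (B u v) := M.form' u v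

theorem map_add (M : SS B) (u v : V) : M (u + v) = M u + M v := M.f.map_add u v

theorem map_sub (M : SS B) (u v : V) : M (u - v) = M u - M v := _root_.map_sub M.f u v

theorem map_neg (M : SS B) (u : V) : M (-u) = -M u := _root_.map_neg M.f u

theorem map_zero (M : SS B) : M 0 = 0 := M.f.map_zero

theorem injective (M : SS B) : Function.Injective M := M.f.injective

theorem surjective (M : SS B) : Function.Surjective M := M.f.surjective

instance : One (SS B) := ⟨⟨AddEquiv.refl V, RingEquiv.refl F, 1, one_ne_zero, fun _ _ => rfl, fun u v => by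
  rw [one_mul]; rfl⟩⟩

instance : Mul (SS B) := ⟨fun M L => ⟨L.f.trans M.f, L.σ.trans M.σ, M.l * M.σ L.l,
  mul_ne_zero M.hl ((map_ne_zero M.σ).2 L.hl), fun a v => by
    show M.f (L.f (a • v)) = M.σ (L.σ a) • M.f (L.f v)
    rw [L.smul', M.smul'], fun u v => by
    show B (M.f (L.f u)) (M.f (L.f v)) = M.l * M.σ L.l * M.σ (L.σ (B u v))
    rw [M.form', L.form', map_mul, mul_assoc]⟩⟩

instance : Inv (SS B) := ⟨fun M => ⟨M.f.symm, M.σ.symm, M.σ.symm M.l⁻¹,
  (map_ne_zero M.σ.symm).2 (inv_ne_zero M.hl), fun a v => by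
    apply M.f.injective
    rw [M.smul', AddEquiv.apply_symm_apply, AddEquiv.apply_symm_apply, RingEquiv.apply_symm_apply],
  fun u v => by
    apply M.σ.injective
    rw [map_mul, RingEquiv.apply_symm_apply, RingEquiv.apply_symm_apply]
    have h := M.form' (M.f.symm u) (M.f.symm v)
    rw [AddEquiv.apply_symm_apply, AddEquiv.apply_symm_apply] at h
    rw [h, ← mul_assoc, inv_mul_cancel₀ M.hl, one_mul]⟩⟩

@[simp] theorem one_apply (v : V) : (1 : SS B) v = v := rfl
@[simp] theorem mul_apply (M L : SS B) (v : V) : (M * L) v = M (L v) := rfl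
@[simp] theorem inv_apply_self (M : SS B) (v : V) : M⁻¹ (M v) = v := M.f.symm_apply_apply v
@[simp] theorem apply_inv_self (M : SS B) (v : V) : M (M⁻¹ v) = v := M.f.apply_symm_apply v
theorem one_σ : (1 : SS B).σ = 1 := rfl
theorem one_l : (1 : SS B).l = 1 := rfl
theorem mul_σ (M L : SS B) : (M * L).σ = M.σ * L.σ := rfl
theorem mul_l (M L : SS B) : (M * L).l = M.l * M.σ L.l := rfl
theorem inv_σ (M : SS B) : M⁻¹.σ = M.σ⁻¹ := rfl

instance : Group (SS B) where
  mul_assoc M L K := ext' (fun _ => rfl) rfl (by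
    simp only [mul_l, mul_σ, map_mul, mul_assoc]
    rfl)
  one_mul M := ext' (fun _ => rfl) rfl (by rw [mul_l, one_l, one_mul, one_σ]; rfl)
  mul_one M := ext' (fun _ => rfl) rfl (by rw [mul_l, one_l, map_one, mul_one])
  inv_mul_cancel M := ext' (fun v => M.f.symm_apply_apply v) (RingEquiv.ext fun a => M.σ.symm_apply_apply a) (by
    show M.σ.symm M.l⁻¹ * M.σ.symm M.l = 1
    rw [← map_mul, inv_mul_cancel₀ M.hl, map_one])

theorem pow_apply (M : SS B) (n : ℕ) (v : V) : (M ^ n) v = M^[n] v := by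
  induction n generalizing v with
  | zero => rfl
  | succ n ih => rw [pow_succ, mul_apply, ih, Function.iterate_succ_apply]

/-- the semisimilitude is a scalar -/
def IsScal (M : SS B) : Prop := ∃ a : F, a ≠ 0 ∧ ∀ v, M v = a • v

/-- the semisimilitude acts as a scalar on `W` -/
def ScalOn (M : SS B) (W : Submodule F V) : Prop := ∃ a : F, a ≠ 0 ∧ ∀ v ∈ W, M v = a • v

/-- the semisimilitude is linear -/
def IsLin (M : SS B) : Prop := M.σ = 1

theorem IsLin.map_smul {M : SS B} (h : M.IsLin) (a : F) (v : V) : M (a • v) = a • M v := by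
  have h' : M.σ = 1 := h
  rw [M.map_smul, h']; rfl

theorem IsLin.form {M : SS B} (h : M.IsLin) (u v : V) : B (M u) (M v) = M.l * B u v := by
  have h' : M.σ = 1 := h
  rw [M.form, h']; rfl

theorem IsLin.mul {M L : SS B} (h : M.IsLin) (h' : L.IsLin) : (M * L).IsLin := by
  show (M * L).σ = 1
  rw [mul_σ, show M.σ = 1 from h, show L.σ = 1 from h', one_mul]

theorem isLin_one : (1 : SS B).IsLin := rfl

theorem IsLin.pow {M : SS B} (h : M.IsLin) (n : ℕ) : (M ^ n).IsLin := by
  induction n with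
  | zero => rw [pow_zero]; exact isLin_one
  | succ n ih => rw [pow_succ]; exact ih.mul h

/-- a semisimilitude as a linear map -/
def IsLin.lin {M : SS B} (h : M.IsLin) : V ≃ₗ[F] V :=
  { M.f with map_smul' := fun a v => h.map_smul a v }

@[simp] theorem IsLin.lin_apply {M : SS B} (h : M.IsLin) (v : V) : h.lin v = M v := rfl

/-- scalars -/
def sc (B : LinearMap.BilinForm F V) (a : F) (ha : a ≠ 0) : SS B where
  f := (LinearEquiv.smulOfUnit (Units.mk0 a ha) : V ≃ₗ[F] V).toAddEquiv
  σ := 1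
  l := a * a
  hl := mul_ne_zero ha ha
  smul' b v := by
    show a • (b • v) = b • (a • v)
    rw [smul_comm]
  form' u v := by
    show B (a • u) (a • v) = a * a * B u v
    rw [_root_.map_smul, LinearMap.map_smul₂, smul_eq_mul, smul_eq_mul, mul_assoc]

theorem sc_apply (a : F) (ha : a ≠ 0) (v : V) : sc B a ha v = a • v := rfl

/-- conjugation of an isometry by a semisimilitude, as a linear map -/
def cjLin (M : SS B) (t : V ≃ₗ[F] V) : V ≃ₗ[F] V where
  toFun v := M (t (M⁻¹ v))
  invFun v := M (t.symm (M⁻¹ v))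
  left_inv v := by simp
  right_inv v := by simp
  map_add' u v := by
    rw [M⁻¹.map_add, t.map_add, M.map_add]
  map_smul' a v := by
    rw [M⁻¹.map_smul, t.map_smul, M.map_smul, inv_σ]
    show M.σ (M.σ.symm a) • _ = _
    rw [RingEquiv.apply_symm_apply]
    rfl

theorem cjLin_apply (M : SS B) (t : V ≃ₗ[F] V) (v : V) : cjLin M t (M v) = M (t v) := by
  show M (t (M⁻¹ (M v))) = _
  rw [inv_apply_self]

theorem cjLin_mem (M : SS B) {t : V ≃ₗ[F] V} (ht : t ∈ Sp B) : cjLin M t ∈ Sp B := by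
  intro u v
  obtain ⟨u, rfl⟩ := M.surjective u
  obtain ⟨v, rfl⟩ := M.surjective v
  rw [cjLin_apply, cjLin_apply, M.form, M.form, ht u v]

/-- conjugation -/
def cj : SS B →* MulAut (Sp B) where
  toFun M :=
    { toFun := fun t => ⟨cjLin M t.1, cjLin_mem M t.2⟩
      invFun := fun t => ⟨cjLin M⁻¹ t.1, cjLin_mem M⁻¹ t.2⟩
      left_inv := fun t => Subtype.ext (LinearEquiv.ext fun v => by
        show M⁻¹ (M (t.1 (M⁻¹ (M⁻¹⁻¹ v)))) = t.1 v
        simp)
      right_inv := fun t => Subtype.ext (LinearEquiv.ext fun v => by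
        show M (M⁻¹ (t.1 (M⁻¹⁻¹ (M⁻¹ v)))) = t.1 v
        simp)
      map_mul' := fun s t => Subtype.ext (LinearEquiv.ext fun v => by
        show M ((s.1 * t.1) (M⁻¹ v)) = M (s.1 (M⁻¹ (M (t.1 (M⁻¹ v)))))
        rw [inv_apply_self]
        rfl) }
  map_one' := rfl
  map_mul' M L := by
    apply MulEquiv.ext
    intro t
    apply Subtype.ext
    apply LinearEquiv.ext
    intro v
    show (M * L) (t.1 ((M * L)⁻¹ v)) = M (L (t.1 (L⁻¹ (M⁻¹ v))))
    rw [mul_inv_rev]
    rfl

@[simp] theorem cj_apply (M : SS B) (t : Sp B) (v : V) : (cj M t).1 (M v) = M (t.1 v) := cjLin_apply M t.1 v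

theorem cj_eq {M : SS B} {s t : Sp B} (h : ∀ v, t.1 (M v) = M (s.1 v)) : cj M s = t := by
  apply Subtype.ext
  apply LinearEquiv.ext
  intro v
  obtain ⟨v, rfl⟩ := M.surjective v
  rw [cj_apply, h]

/-- isometries as semisimilitudes -/
def tg : Sp B →* SS B where
  toFun t := ⟨t.1.toAddEquiv, 1, 1, one_ne_zero, fun a v => _root_.map_smul t.1 a v, fun u v => by
    rw [one_mul]
    exact t.2 u v⟩
  map_one' := rfl
  map_mul' s t := ext' (fun _ => rfl) rfl (by rw [mul_l]; simp)

@[simp] theorem tg_apply (t : Sp B) (v : V) : tg t v = t.1 v := rfl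

theorem tg_lin (t : Sp B) : (tg t).IsLin := rfl

theorem cj_tg (s t : Sp B) : cj (tg s) t = s * t * s⁻¹ := by
  apply cj_eq
  intro v
  show s.1 (t.1 (s.1.symm (s.1 v))) = s.1 (t.1 v)
  rw [LinearEquiv.symm_apply_apply]

theorem cj_of_scal {M : SS B} (h : M.IsScal) : cj M = 1 := by
  obtain ⟨a, ha, h⟩ := h
  apply MulEquiv.ext
  intro t
  apply cj_eq
  intro v
  rw [h, h, _root_.map_smul]
  rfl

end SS

/-- transvections -/
def tv (h : NAlt B) (e : V) (c : F) : Sp B :=
  ⟨{ toFun := fun x => x + (c * B x e) • e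
     invFun := fun x => x - (c * B x e) • e
     left_inv := fun x => by
      have h1 : B (x + (c * B x e) • e) e = B x e := by
        rw [map_add, LinearMap.add_apply, map_smul, LinearMap.smul_apply, h.alt, smul_zero, add_zero]
      show (x + (c * B x e) • e) - (c * B (x + (c * B x e) • e) e) • e = x
      rw [h1, add_sub_cancel_right]
     right_inv := fun x => by
      have h1 : B (x - (c * B x e) • e) e = B x e := by
        rw [map_sub, LinearMap.sub_apply, map_smul, LinearMap.smul_apply, h.alt, smul_zero, sub_zero]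
      show (x - (c * B x e) • e) + (c * B (x - (c * B x e) • e) e) • e = x
      rw [h1, sub_add_cancel]
     map_add' := fun x y => by
      rw [map_add, LinearMap.add_apply, mul_add, add_smul]
      abel
     map_smul' := fun a x => by
      rw [map_smul, LinearMap.smul_apply, smul_eq_mul, RingHom.id_apply, smul_add, smul_smul]
      congr 2
      ring }, by
    intro x y
    show B (x + (c * B x e) • e) (y + (c * B y e) • e) = B x y
    simp only [map_add, LinearMap.add_apply, map_smul, LinearMap.smul_apply, smul_eq_mul, h.alt, mul_zero, add_zero]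
    rw [h.swap e y]
    ring⟩

@[simp] theorem tv_apply (h : NAlt B) (e : V) (c : F) (x : V) : (tv h e c).1 x = x + (c * B x e) • e := rfl

theorem tv_add (h : NAlt B) (e : V) (c d : F) : tv h e (c + d) = tv h e c * tv h e d := by
  apply Subtype.ext
  apply LinearEquiv.ext
  intro x
  show (tv h e (c + d)).1 x = (tv h e c).1 ((tv h e d).1 x)
  rw [tv_apply, tv_apply, tv_apply, map_add, LinearMap.add_apply, map_smul, LinearMap.smul_apply, h.alt, smul_zero,
    add_zero, add_mul, add_smul]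
  abel

@[simp] theorem tv_zero (h : NAlt B) (e : V) : tv h e 0 = 1 := by
  apply Subtype.ext
  apply LinearEquiv.ext
  intro x
  rw [tv_apply, zero_mul, zero_smul, add_zero]
  rfl

theorem tv_inv (h : NAlt B) (e : V) (c : F) : (tv h e c)⁻¹ = tv h e (-c) := by
  rw [inv_eq_iff_mul_eq_one, ← tv_add, add_neg_cancel, tv_zero]

theorem tv_smul (h : NAlt B) (e : V) (a c : F) : tv h (a • e) c = tv h e (c * a * a) := by
  apply Subtype.ext
  apply LinearEquiv.ext
  intro x
  rw [tv_apply, tv_apply, map_smul, smul_eq_mul, smul_smul]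
  congr 2
  ring

theorem tv_ne_one (h : NAlt B) {e : V} (he : e ≠ 0) {c : F} (hc : c ≠ 0) : tv h e c ≠ 1 := by
  intro h1
  obtain ⟨y, hy⟩ := h.exists_ne he
  have h2 := congrArg (fun t : Sp B => t.1 y) h1
  change (tv h e c).1 y = y at h2
  rw [tv_apply, add_eq_left, smul_eq_zero] at h2
  rcases h2 with h2 | h2
  · rcases mul_eq_zero.1 h2 with h3 | h3
    · exact hc h3
    · exact hy (h.swap0 h3)
  · exact he h2

/-- conjugates of transvections -/
theorem cj_tv (h : NAlt B) (M : SS B) (e : V) (c : F) : SS.cj M (tv h e c) = tv h (M e) (M.σ c * M.l⁻¹) := by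
  apply SS.cj_eq
  intro x
  rw [tv_apply, tv_apply, M.map_add, M.map_smul, M.form, map_mul]
  congr 2
  rw [mul_assoc, inv_mul_cancel_left₀ M.hl]

/-- an additive map preserving all lines is a scalar -/
theorem scal_of_lines [FiniteDimensional F V] (hd : 2 ≤ finrank F V) (f : V →+ V) (h : ∀ v, ∃ c : F, f v = c • v) :
    ∃ c : F, ∀ v, f v = c • v := by
  classical
  have hV : Nontrivial V := Module.nontrivial_of_finrank_pos (R := F) (by omega)
  obtain ⟨w, hw⟩ := exists_ne (0 : V)
  obtain ⟨c, hc⟩ := h w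
  have hstep : ∀ {a b : V} {ca cb : F}, f a = ca • a → f b = cb • b → a ≠ 0 → (∀ t : F, b ≠ t • a) → ca = cb := by
    intro a b ca cb ha hb ha0 hab
    obtain ⟨cd, hcd⟩ := h (a + b)
    rw [f.map_add, ha, hb, smul_add] at hcd
    have h1 : (cb - cd) • b = (cd - ca) • a := by
      rw [sub_smul, sub_smul]
      rw [← sub_eq_zero] at hcd ⊢
      rw [← hcd]; abel
    have h2 : cb = cd := by
      by_contra hne
      apply hab ((cb - cd)⁻¹ * (cd - ca))
      rw [mul_smul, ← h1, smul_smul, inv_mul_cancel₀ (sub_ne_zero.2 hne), one_smul]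
    have h3 : (cd - ca) • a = 0 := by rw [← h1, h2, sub_self, zero_smul]
    rcases smul_eq_zero.1 h3 with h4 | h4
    · rw [h2]; exact (sub_eq_zero.1 h4).symm
    · exact absurd h4 ha0
  refine ⟨c, fun v => ?_⟩
  by_cases hv : v = 0
  · rw [hv, f.map_zero, smul_zero]
  obtain ⟨cv, hcv⟩ := h v
  by_cases hdep : ∀ t : F, v ≠ t • w
  · rw [hcv, hstep hc hcv hw hdep]
  · push Not at hdep
    obtain ⟨t, rfl⟩ := hdep
    -- a third vector outside the line
    obtain ⟨z, hz⟩ : ∃ z : V, ∀ t : F, z ≠ t • w := by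
      by_contra hno
      push Not at hno
      have h1 : (Submodule.span F {w}) = ⊤ := by
        rw [eq_top_iff]
        intro z _
        obtain ⟨t, rfl⟩ := hno z
        exact Submodule.smul_mem _ _ (Submodule.mem_span_singleton_self w)
      have h2 : finrank F (Submodule.span F {w}) = 1 := finrank_span_singleton hw
      rw [h1, finrank_top] at h2
      omega
    obtain ⟨cz, hcz⟩ := h z
    have h1 := hstep hc hcz hw hz
    have h2 : cv = cz := by
      refine hstep hcv hcz hv fun s hs => hz (s * t) ?_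
      rw [hs, smul_smul]
    rw [hcv, h2, h1]

end defs

section env

variable {F : Type u} {V : Type v} [Field F] [AddCommGroup V] [Module F V] {B : LinearMap.BilinForm F V}
variable {G : Type*} [Group G]

/-- `M` is a lift of `x` -/
def Lf (ρ : ↥(Sp B) →* G) (x : G) (M : SS B) : Prop := ∀ t : ↥(Sp B), x * ρ t * x⁻¹ = ρ (SS.cj M t)

/-- the working environment of the symplectic rows -/
structure SpEnv (Ω : Type*) [MulAction G Ω] (N : Subgroup G) (ρ : ↥(Sp B) →* G) : Prop where
  env : Env G Ω N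
  form : NAlt B
  range : ρ.range = N
  ker : ∀ t : ↥(Sp B), ρ t = 1 ↔ ∃ a : F, ∀ v, t.1 v = a • v
  lift : ∀ x : G, ∃ M : SS B, Lf ρ x M
  dim : 4 ≤ finrank F V

variable {ρ : ↥(Sp B) →* G} {x y : G} {M L : SS B}

theorem Lf.one : Lf ρ 1 (1 : SS B) := by
  intro t
  rw [map_one]
  simp

theorem Lf.mul (h : Lf ρ x M) (h' : Lf ρ y L) : Lf ρ (x * y) (M * L) := by
  intro t
  rw [map_mul, MulAut.mul_apply, ← h, ← h']
  group

theorem Lf.inv (h : Lf ρ x M) : Lf ρ x⁻¹ M⁻¹ := by
  intro t
  have h1 := h (SS.cj M⁻¹ t)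
  have h2 : SS.cj M (SS.cj M⁻¹ t) = t := by
    rw [← MulAut.mul_apply, ← map_mul, mul_inv_cancel, map_one]; rfl
  rw [h2] at h1
  rw [← h1]
  group

theorem Lf.pow (h : Lf ρ x M) (n : ℕ) : Lf ρ (x ^ n) (M ^ n) := by
  induction n with
  | zero => rw [pow_zero, pow_zero]; exact Lf.one
  | succ n ih => rw [pow_succ, pow_succ]; exact ih.mul h

theorem Lf.tg (s : ↥(Sp B)) : Lf ρ (ρ s) (SS.tg s) := by
  intro t
  rw [SS.cj_tg, map_mul, map_mul, map_inv]

theorem Lf.of_scal (h : Lf ρ x M) (hL : L.IsScal) : Lf ρ x (L * M) := by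
  intro t
  rw [map_mul, SS.cj_of_scal hL, one_mul]
  exact h t

namespace SpEnv

variable {Ω : Type*} [MulAction G Ω] {N : Subgroup G} (E : SpEnv Ω N ρ)
include E

/-- equality of images of transvections -/
theorem line_of_eq [FiniteDimensional F V] {e e' : V} {c c' : F} (hc : c ≠ 0)
    (h : ρ (tv E.form e c) = ρ (tv E.form e' c')) : ∃ a : F, e = a • e' := by
  have h1 : ρ (tv E.form e c * (tv E.form e' c')⁻¹) = 1 := by rw [map_mul, map_inv, h, mul_inv_cancel]
  obtain ⟨a, ha⟩ := (E.ker _).1 h1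
  have h2 : ∀ v, (tv E.form e c).1 v = a • (tv E.form e' c').1 v := by
    intro v
    have h3 := ha ((tv E.form e' c').1 v)
    have h4 : ((tv E.form e c * (tv E.form e' c')⁻¹).1) ((tv E.form e' c').1 v) = (tv E.form e c).1 v := by
      show (tv E.form e c).1 ((tv E.form e' c').1.symm ((tv E.form e' c').1 v)) = _
      rw [LinearEquiv.symm_apply_apply]
    rw [h4] at h3
    exact h3
  by_cases he : e = 0
  · exact ⟨0, by rw [he, zero_smul]⟩
  -- a vector orthogonal to both and nonzero
  have hd := E.dim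
  have hW : 2 ≤ finrank F ↥(LinearMap.ker (B e) ⊓ LinearMap.ker (B e')) := by
    have h3 : finrank F V ≤ finrank F (LinearMap.ker (B e)) + 1 := by
      have := LinearMap.finrank_range_add_finrank_ker (B e)
      have h4 : finrank F (LinearMap.range (B e)) ≤ 1 := by
        calc finrank F (LinearMap.range (B e)) ≤ finrank F F := Submodule.finrank_le _
          _ = 1 := finrank_self F
      omega
    have h5 : finrank F V ≤ finrank F (LinearMap.ker (B e')) + 1 := by
      have := LinearMap.finrank_range_add_finrank_ker (B e')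
      have h4 : finrank F (LinearMap.range (B e')) ≤ 1 := by
        calc finrank F (LinearMap.range (B e')) ≤ finrank F F := Submodule.finrank_le _
          _ = 1 := finrank_self F
      omega
    have h6 := Submodule.finrank_sup_add_finrank_inf_eq (LinearMap.ker (B e)) (LinearMap.ker (B e'))
    have h7 := Submodule.finrank_le (LinearMap.ker (B e) ⊔ LinearMap.ker (B e'))
    omega
  have : Nontrivial ↥(LinearMap.ker (B e) ⊓ LinearMap.ker (B e')) :=
    Module.nontrivial_of_finrank_pos (R := F) (by omega)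
  obtain ⟨⟨w, hw⟩, hw0⟩ := exists_ne (0 : ↥(LinearMap.ker (B e) ⊓ LinearMap.ker (B e')))
  have hw1 : B e w = 0 := LinearMap.mem_ker.1 hw.1
  have hw2 : B e' w = 0 := LinearMap.mem_ker.1 hw.2
  have hwne : w ≠ 0 := fun h => hw0 (Subtype.ext h)
  have ha1 : a = 1 := by
    have h3 := h2 w
    rw [tv_apply, tv_apply, E.form.swap0 hw1, E.form.swap0 hw2, mul_zero, zero_smul, add_zero, mul_zero, zero_smul,
      add_zero] at h3
    have h4 : (a - 1) • w = 0 := by rw [sub_smul, one_smul, ← h3, sub_self]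
    rcases smul_eq_zero.1 h4 with h5 | h5
    · exact sub_eq_zero.1 h5
    · exact absurd h5 hwne
  obtain ⟨y, hy⟩ := E.form.exists_ne he
  have h3 := h2 y
  rw [ha1, one_smul, tv_apply, tv_apply, add_right_inj] at h3
  have hy' : B y e ≠ 0 := fun h0 => hy (E.form.swap0 h0)
  refine ⟨(c * B y e)⁻¹ * (c' * B y e'), ?_⟩
  rw [mul_smul, ← h3, smul_smul, inv_mul_cancel₀ (mul_ne_zero hc hy'), one_smul]

/-- the lift is a scalar iff the element centralises `N` -/
theorem scal_iff [FiniteDimensional F V] (h : Lf ρ x M) : M.IsScal ↔ ∀ t : ↥(Sp B), x * ρ t = ρ t * x := by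
  constructor
  · intro hs t
    have h1 := h t
    rw [SS.cj_of_scal hs] at h1
    exact mul_inv_eq_iff_eq_mul.1 h1
  · intro hx
    have h1 : ∀ t : ↥(Sp B), ρ (SS.cj M t) = ρ t := by
      intro t
      rw [← h t, hx t, mul_inv_cancel_right]
    have h2 : ∀ v, ∃ c : F, M.f.toAddMonoidHom v = c • v := by
      intro v
      have h3 := h1 (tv E.form v 1)
      rw [cj_tv, map_one, one_mul] at h3
      exact E.line_of_eq (inv_ne_zero M.hl) h3
    obtain ⟨c, hc⟩ := scal_of_lines (by have := E.dim; omega) _ h2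
    refine ⟨c, ?_, hc⟩
    rintro rfl
    have := E.dim
    have : Nontrivial V := Module.nontrivial_of_finrank_pos (R := F) (by omega)
    obtain ⟨w, hw⟩ := exists_ne (0 : V)
    apply hw
    apply M.injective
    have h3 := hc w
    rw [zero_smul] at h3
    rw [M.map_zero]
    exact h3

/-- `x = 1` iff the lift is a scalar -/
theorem eq_one_iff [FiniteDimensional F V] (h : Lf ρ x M) : x = 1 ↔ M.IsScal := by
  rw [E.scal_iff h]
  constructor
  · rintro rfl t
    simp
  · intro hx
    have h1 : x ∈ Subgroup.centralizer (N : Set G) := by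
      rw [Subgroup.mem_centralizer_iff]
      intro n hn
      have hn' : n ∈ N := hn
      rw [← E.range] at hn'
      obtain ⟨t, rfl⟩ := hn'
      exact (hx t).symm
    rw [E.env.cent] at h1
    exact Subgroup.mem_bot.1 h1

/-- two elements with the same lift are equal -/
theorem lf_inj [FiniteDimensional F V] (h : Lf ρ x M) (h' : Lf ρ y M) : x = y := by
  have h1 : Lf ρ (x * y⁻¹) (M * M⁻¹) := h.mul h'.inv
  rw [mul_inv_cancel] at h1
  exact mul_inv_eq_one.1 ((E.eq_one_iff h1).2 ⟨1, one_ne_zero, fun v => by rw [one_smul]; rfl⟩)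

/-- the lifts of one element differ by a scalar -/
theorem lf_unique [FiniteDimensional F V] (h : Lf ρ x M) (h' : Lf ρ x L) : ∃ a : F, a ≠ 0 ∧ ∀ v, L v = a • M v := by
  have h1 : Lf ρ (x * x⁻¹) (L * M⁻¹) := h'.mul h.inv
  rw [mul_inv_cancel] at h1
  obtain ⟨a, ha, h2⟩ := (E.eq_one_iff h1).1 rfl
  refine ⟨a, ha, fun v => ?_⟩
  have h3 := h2 (M v)
  rw [SS.mul_apply, SS.inv_apply_self] at h3
  exact h3

/-- lifts of commuting elements commute up to a scalar -/
theorem lf_comm [FiniteDimensional F V] (h : Lf ρ x M) (h' : Lf ρ y L) (hxy : x * y = y * x) :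
    ∃ a : F, a ≠ 0 ∧ ∀ v, M (L v) = a • L (M v) :=
  E.lf_unique (h'.mul h) (hxy ▸ h.mul h')

/-- the powers -/
theorem pow_scal [FiniteDimensional F V] (h : Lf ρ x M) {r : ℕ} (hx : x ^ r = 1) :
    ∃ a : F, a ≠ 0 ∧ ∀ v, M^[r] v = a • v := by
  have h1 := h.pow r
  rw [hx] at h1
  obtain ⟨a, ha, h2⟩ := (E.eq_one_iff h1).1 rfl
  exact ⟨a, ha, fun v => by rw [← SS.pow_apply, h2]⟩

/-- an element all of whose lifts are isometries up to scalars -/
theorem eq_of_lf [FiniteDimensional F V] (h : Lf ρ x M) {t : ↥(Sp B)} {a : F} (ha : a ≠ 0)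
    (ht : ∀ v, M v = a • t.1 v) : x = ρ t := by
  have h1 : Lf ρ (x * (ρ t)⁻¹) (M * (SS.tg t)⁻¹) := h.mul (Lf.tg t).inv
  refine mul_inv_eq_one.1 ((E.eq_one_iff h1).2 ⟨a, ha, fun v => ?_⟩)
  obtain ⟨v, rfl⟩ := (SS.tg t).surjective v
  rw [SS.mul_apply, SS.inv_apply_self, ht]
  rfl

end SpEnv

end env

end Cfsg.Agent.H520.RC
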